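/-
Weighted multisets determine the number of generators of each weight, and the weighted multisets of
monic irreducible polynomials.
-/
import Mathlib

set_option autoImplicit false
set_option linter.unusedSectionVars false

namespace Cfsg.Agent.H60.Cusp

open Polynomial UniqueFactorizationMonoid

universe u v

section Graded

variable {A : Type u} {B : Type v}

/-- Multisets of total weight `n`. -/
abbrev Wt (w : A → ℕ) (n : ℕ) := {M : Multiset A // (M.map w).sum = n}

variable (w : A → ℕ)

theorem wt_split (hw : ∀ a, 0 < w a) (n : ℕ) :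
    Nonempty (Wt w n ≃ {a // w a = n} ⊕ Wt (fun a : {a // w a < n} => w a.1) n) := by
  classical
  let g : {a // w a = n} ⊕ Wt (fun a : {a // w a < n} => w a.1) n → Wt w n :=
    Sum.elim (fun a => ⟨{a.1}, by simp [a.2]⟩) fun M => ⟨M.1.map Subtype.val, by
      rw [Multiset.map_map]; exact M.2⟩
  refine ⟨(Equiv.ofBijective g ⟨?_, ?_⟩).symm⟩
  · have hne : ∀ (a : {a // w a = n}) (M : Wt (fun a : {a // w a < n} => w a.1) n),
        ({a.1} : Multiset A) ≠ M.1.map Subtype.val := fun a M e => by
      obtain ⟨b, -, hb⟩ := Multiset.mem_map.1 (e ▸ Multiset.mem_singleton_self a.1)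
      exact (hb ▸ b.2).ne a.2
    rintro (a | M) (b | N) e <;> simp only [g, Sum.elim_inl, Sum.elim_inr, Subtype.mk.injEq] at e
    · exact congrArg Sum.inl (Subtype.ext (Multiset.singleton_inj.1 e))
    · exact absurd e (hne a N)
    · exact absurd e.symm (hne b M)
    · exact congrArg Sum.inr (Subtype.ext (Multiset.map_injective Subtype.val_injective e))
  · rintro ⟨M, hM⟩
    by_cases h : ∃ a ∈ M, w a = n
    · obtain ⟨a, ha, hwa⟩ := h
      refine ⟨Sum.inl ⟨a, hwa⟩, Subtype.ext ?_⟩
      show ({a} : Multiset A) = M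
      obtain ⟨M', rfl⟩ := Multiset.exists_cons_of_mem ha
      rw [Multiset.map_cons, Multiset.sum_cons, hwa] at hM
      have h0 : M' = 0 := Multiset.eq_zero_of_forall_notMem fun b hb => by
        have := Multiset.le_sum_of_mem (Multiset.mem_map_of_mem w hb)
        have := hw b
        omega
      rw [h0, Multiset.cons_zero]
    · push Not at h
      have hlt : ∀ a ∈ M, w a < n := fun a ha =>
        lt_of_le_of_ne (hM ▸ Multiset.le_sum_of_mem (Multiset.mem_map_of_mem w ha)) (h a ha)
      refine ⟨Sum.inr ⟨M.attach.map fun x => ⟨x.1, hlt x.1 x.2⟩, ?_⟩, Subtype.ext ?_⟩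
      · rw [Multiset.map_map]
        exact (congrArg Multiset.sum (Multiset.attach_map_val' M w)).trans hM
      · show (M.attach.map fun x => (⟨x.1, hlt x.1 x.2⟩ : {a // w a < n})).map Subtype.val = M
        rw [Multiset.map_map]
        exact Multiset.attach_map_val M

theorem finite_fibre (hfin : ∀ n, Finite (Wt w (n + 1))) (hw : ∀ a, 0 < w a) (k : ℕ) :
    Finite {a // w a = k} := by
  cases k with
  | zero =>
    have : IsEmpty {a // w a = 0} := ⟨fun a => (hw a.1).ne' a.2⟩
    infer_instance
  | succ k =>
    have := hfin k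
    exact Finite.of_injective (fun a => (⟨{a.1}, by simp [a.2]⟩ : Wt w (k + 1)))
      fun a b e => Subtype.ext (Multiset.singleton_inj.1 (Subtype.ext_iff.1 e))

/-- The weighted multiset counts determine the fibre counts. -/
theorem fibre_card_eq (w' : B → ℕ) (hw : ∀ a, 0 < w a) (hw' : ∀ b, 0 < w' b)
    (hfin : ∀ n, Finite (Wt w (n + 1))) (hfin' : ∀ n, Finite (Wt w' (n + 1)))
    (h : ∀ n, Nat.card (Wt w (n + 1)) = Nat.card (Wt w' (n + 1))) (n : ℕ) :
    Nat.card {a // w a = n} = Nat.card {b // w' b = n} := by
  induction n using Nat.strong_induction_on with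
  | _ n ih =>
    rcases Nat.eq_zero_or_pos n with rfl | hn
    · haveI : IsEmpty {a // w a = 0} := ⟨fun a => (hw a.1).ne' a.2⟩
      have : IsEmpty {b // w' b = 0} := ⟨fun b => (hw' b.1).ne' b.2⟩
      simp
    obtain ⟨m, rfl⟩ : ∃ m, n = m + 1 := ⟨n - 1, by omega⟩
    have hfib : ∀ k, Nonempty ({x : {a // w a < m + 1} // w x.1 = k} ≃
        {y : {b // w' b < m + 1} // w' y.1 = k}) := fun k => by
      by_cases hk : k < m + 1
      · haveI := finite_fibre w hfin hw k
        have := finite_fibre w' hfin' hw' k
        obtain ⟨e⟩ := Finite.card_eq.1 (ih k hk)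
        exact ⟨((Equiv.subtypeSubtypeEquivSubtype (fun {x} (hx : w x = k) => hx ▸ hk)).trans e).trans
          (Equiv.subtypeSubtypeEquivSubtype (fun {x} (hx : w' x = k) => hx ▸ hk)).symm⟩
      · haveI : IsEmpty {x : {a // w a < m + 1} // w x.1 = k} := ⟨fun x => hk (x.2 ▸ x.1.2)⟩
        have : IsEmpty {y : {b // w' b < m + 1} // w' y.1 = k} := ⟨fun x => hk (x.2 ▸ x.1.2)⟩
        exact ⟨Equiv.equivOfIsEmpty _ _⟩
    let e : {a // w a < m + 1} ≃ {b // w' b < m + 1} := Equiv.ofFiberEquiv fun k => (hfib k).some
    have he : ∀ x, w' (e x).1 = w x.1 := fun x =>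
      Equiv.ofFiberEquiv_map (fun k => (hfib k).some) x
    have hes : ∀ y, w (e.symm y).1 = w' y.1 := fun y => by rw [← he, Equiv.apply_symm_apply]
    let E : Wt (fun a : {a // w a < m + 1} => w a.1) (m + 1) ≃
        Wt (fun b : {b // w' b < m + 1} => w' b.1) (m + 1) :=
      { toFun := fun M => ⟨M.1.map e, by
          rw [Multiset.map_map]
          exact (congrArg Multiset.sum (Multiset.map_congr rfl fun x _ => he x)).trans M.2⟩
        invFun := fun M => ⟨M.1.map e.symm, by
          rw [Multiset.map_map]
          exact (congrArg Multiset.sum (Multiset.map_congr rfl fun x _ => hes x)).trans M.2⟩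
        left_inv := fun M => Subtype.ext (by simp [Multiset.map_map])
        right_inv := fun M => Subtype.ext (by simp [Multiset.map_map]) }
    obtain ⟨s⟩ := wt_split w hw (m + 1)
    obtain ⟨s'⟩ := wt_split w' hw' (m + 1)
    have := hfin m
    have := hfin' m
    have : Finite (Wt (fun a : {a // w a < m + 1} => w a.1) (m + 1)) :=
      Finite.of_injective (fun M => s.symm (Sum.inr M)) (s.symm.injective.comp Sum.inr_injective)
    have : Finite (Wt (fun b : {b // w' b < m + 1} => w' b.1) (m + 1)) :=
      Finite.of_injective (fun M => s'.symm (Sum.inr M)) (s'.symm.injective.comp Sum.inr_injective)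
    have := finite_fibre w hfin hw (m + 1)
    have := finite_fibre w' hfin' hw' (m + 1)
    have h1 := h m
    rw [Nat.card_congr s, Nat.card_congr s', Nat.card_sum, Nat.card_sum, Nat.card_congr E] at h1
    exact Nat.add_right_cancel h1

end Graded

section Poly

variable (F : Type u) [Field F] [Fintype F] [DecidableEq F]

/-- Monic irreducible polynomials other than `X`. -/
abbrev MI := {p : F[X] // p.Monic ∧ Irreducible p ∧ p ≠ X}

variable {F}

theorem MI.pos (p : MI F) : 0 < p.1.natDegree := p.2.2.1.natDegree_pos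

theorem MI.coeff_zero (p : MI F) : p.1.coeff 0 ≠ 0 := fun h => by
  have hdvd : X ∣ p.1 := Polynomial.X_dvd_iff.2 h
  exact p.2.2.2 (Polynomial.eq_of_monic_of_associated monic_X p.2.1
    (irreducible_X.associated_of_dvd p.2.2.1 hdvd)).symm

theorem card_monic (m : ℕ) :
    Nat.card {p : F[X] // p.Monic ∧ p.natDegree = m + 1 ∧ p.coeff 0 ≠ 0} =
      (Fintype.card F - 1) * Fintype.card F ^ m := by
  have e : {p : F[X] // p.Monic ∧ p.natDegree = m + 1 ∧ p.coeff 0 ≠ 0} ≃
      {f : Fin (m + 1) → F // f 0 ≠ 0} :=
    (Equiv.subtypeEquivRight fun p => by rw [← and_assoc]).trans <|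
    (Equiv.subtypeSubtypeEquivSubtypeInter (fun p : F[X] => p.Monic ∧ p.natDegree = m + 1)
      fun p => p.coeff 0 ≠ 0).symm.trans <|
    ((monicEquivDegreeLT (m + 1)).trans (degreeLTEquiv F (m + 1)).toEquiv).subtypeEquiv fun p => by
      obtain ⟨p, hp, hd⟩ := p
      show p.coeff 0 ≠ 0 ↔ p.eraseLead.coeff 0 ≠ 0
      rw [Polynomial.eraseLead_coeff_of_ne _ (by rw [hd]; omega)]
  have e2 : {f : Fin (m + 1) → F // f 0 ≠ 0} ≃ Fˣ × (Fin m → F) :=
    { toFun := fun f => (Units.mk0 (f.1 0) f.2, fun i => f.1 i.succ)
      invFun := fun x => ⟨Fin.cons (x.1 : F) x.2, by simp⟩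
      left_inv := fun f => Subtype.ext (by
        funext i
        cases i using Fin.cases <;> simp)
      right_inv := fun x => Prod.ext (Units.ext (by simp)) (funext fun i => by simp) }
  rw [Nat.card_congr (e.trans e2), Nat.card_eq_fintype_card, Fintype.card_prod, Fintype.card_units,
    Fintype.card_fun, Fintype.card_fin]

theorem wt_monic (n : ℕ) :
    Nonempty (Wt (fun p : MI F => p.1.natDegree) n ≃
      {p : F[X] // p.Monic ∧ p.natDegree = n ∧ p.coeff 0 ≠ 0}) := by
  classical
  have hmon : ∀ M : Multiset (MI F), ∀ q ∈ M.map Subtype.val, Polynomial.Monic q := fun M q hq => by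
    obtain ⟨p, -, rfl⟩ := Multiset.mem_map.1 hq
    exact p.2.1
  let g : Wt (fun p : MI F => p.1.natDegree) n →
      {p : F[X] // p.Monic ∧ p.natDegree = n ∧ p.coeff 0 ≠ 0} := fun M =>
    ⟨(M.1.map Subtype.val).prod, monic_multiset_prod_of_monic _ _ fun p _ => p.2.1, by
      rw [natDegree_multiset_prod_of_monic _ (hmon M.1), Multiset.map_map]
      exact M.2, by
      rw [← Polynomial.constantCoeff_apply, map_multiset_prod, Multiset.map_map]
      refine Multiset.prod_ne_zero fun h0 => ?_
      obtain ⟨p, -, hp⟩ := Multiset.mem_map.1 h0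
      exact MI.coeff_zero p hp⟩
  refine ⟨Equiv.ofBijective g ⟨fun M N e => ?_, ?_⟩⟩
  · have key : ∀ M : Multiset (MI F), normalizedFactors (M.map Subtype.val).prod = M.map Subtype.val := by
      intro M
      have h0 : (0 : F[X]) ∉ M.map Subtype.val := fun h => by
        obtain ⟨p, -, hp⟩ := Multiset.mem_map.1 h
        exact p.2.1.ne_zero hp
      rw [normalizedFactors_multiset_prod _ h0, Multiset.map_map]
      rw [Multiset.map_congr rfl (g := fun p : MI F => ({p.1} : Multiset F[X])) fun p _ => by
        rw [Function.comp_apply, normalizedFactors_irreducible p.2.2.1, p.2.1.normalize_eq_self]]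
      induction M using Multiset.induction_on with
      | empty => simp
      | cons a s ih =>
        rw [Multiset.map_cons, Multiset.sum_cons, ih (fun h => h0 (Multiset.mem_map.2 (by
          obtain ⟨p, hp, e⟩ := Multiset.mem_map.1 h; exact ⟨p, Multiset.mem_cons_of_mem hp, e⟩))),
          Multiset.map_cons, Multiset.singleton_add]
    refine Subtype.ext (Multiset.map_injective Subtype.val_injective ?_)
    rw [← key M.1, ← key N.1]
    exact congrArg normalizedFactors (Subtype.ext_iff.1 e)
  · rintro ⟨p, hp, hd, h0⟩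
    have hq : ∀ q ∈ normalizedFactors p, q.Monic ∧ Irreducible q ∧ q ≠ X := fun q hq => by
      refine ⟨?_, irreducible_of_normalized_factor q hq, ?_⟩
      · rw [← normalize_normalized_factor q hq]
        exact Polynomial.monic_normalize (irreducible_of_normalized_factor q hq).ne_zero
      · rintro rfl
        exact h0 (Polynomial.X_dvd_iff.1 (dvd_of_mem_normalizedFactors hq))
    set M : Multiset (MI F) := (normalizedFactors p).attach.map fun q => ⟨q.1, hq q.1 q.2⟩ with hMdef
    have hM : M.map Subtype.val = normalizedFactors p := by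
      rw [hMdef, Multiset.map_map]
      exact Multiset.attach_map_val _
    have hprod : (M.map Subtype.val).prod = p := by
      rw [hM, prod_normalizedFactors_eq hp.ne_zero, hp.normalize_eq_self]
    refine ⟨⟨M, ?_⟩, Subtype.ext hprod⟩
    rw [← hd, ← hprod, natDegree_multiset_prod_of_monic _ (hmon M)]
    simp only [hMdef, Multiset.map_map]
    rfl

theorem finite_wt_monic (m : ℕ) : Finite (Wt (fun p : MI F => p.1.natDegree) (m + 1)) := by
  refine Nat.finite_of_card_ne_zero ?_
  rw [Nat.card_congr (wt_monic (m + 1)).some, card_monic]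
  have := Fintype.one_lt_card (α := F)
  exact Nat.mul_ne_zero (by omega) (pow_ne_zero _ (by omega))

open scoped IntermediateField in
theorem totient_le (n : ℕ) (hn : 0 < n) :
    Nat.totient (Fintype.card F ^ n - 1) / n ≤ Nat.card {p : MI F // p.1.natDegree = n} := by
  classical
  obtain ⟨p, hp⟩ := CharP.exists F
  have : Fact p.Prime := ⟨CharP.char_is_prime F p⟩
  have : NeZero n := ⟨hn.ne'⟩
  let K := FiniteField.Extension F p n
  have : Fintype K := Fintype.ofFinite K
  have hq : Fintype.card K = Fintype.card F ^ n := by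
    rw [Fintype.card_eq_nat_card, Fintype.card_eq_nat_card, FiniteField.natCard_extension]
  have hcardU : Fintype.card Kˣ = Fintype.card F ^ n - 1 := by rw [Fintype.card_units, hq]
  set S : Finset Kˣ := Finset.univ.filter fun x => orderOf x = Fintype.card F ^ n - 1 with hS
  have hScard : S.card = Nat.totient (Fintype.card F ^ n - 1) :=
    IsCyclic.card_orderOf_eq_totient (by rw [hcardU])
  have hint : ∀ x : K, IsIntegral F x := fun x => Algebra.IsIntegral.isIntegral x
  have hgen : ∀ x ∈ S, Algebra.adjoin F {(x : K)} = ⊤ := by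
    intro x hx
    rw [Finset.mem_filter] at hx
    rw [Algebra.eq_top_iff]
    intro y
    by_cases hy : y = 0
    · rw [hy]; exact Subalgebra.zero_mem _
    · have hz : Units.mk0 y hy ∈ Subgroup.zpowers x := by
        have : Subgroup.zpowers x = ⊤ := by
          rw [← Subgroup.card_eq_iff_eq_top, Nat.card_zpowers, hx.2, Nat.card_eq_fintype_card, hcardU]
        rw [this]; trivial
      obtain ⟨k, hk⟩ := (Submonoid.mem_powers_iff _ _).1 ((mem_powers_iff_mem_zpowers).2 hz)
      have : y = (x : K) ^ k := by rw [← Units.val_pow_eq_pow_val, hk, Units.val_mk0]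
      rw [this]
      exact pow_mem (Algebra.self_mem_adjoin_singleton F (x : K)) k
  have hdeg : ∀ x ∈ S, (minpoly F (x : K)).natDegree = n := by
    intro x hx
    rw [← IntermediateField.adjoin.finrank (hint _)]
    have h2 : F⟮(x : K)⟯ = ⊤ := by
      apply IntermediateField.toSubalgebra_injective
      rw [IntermediateField.adjoin_simple_toSubalgebra_of_isAlgebraic (hint _).isAlgebraic, hgen x hx,
        IntermediateField.top_toSubalgebra]
    rw [h2, IntermediateField.finrank_top', FiniteField.finrank_extension]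
  have hX : ∀ x : Kˣ, minpoly F (x : K) ≠ X := fun x e => by
    have := minpoly.aeval F (x : K)
    rw [e, aeval_X] at this
    exact x.ne_zero this
  have : Finite {p : MI F // p.1.natDegree = n} :=
    finite_fibre _ finite_wt_monic MI.pos n
  have : Fintype {p : MI F // p.1.natDegree = n} := Fintype.ofFinite _
  let Φ : S → {p : MI F // p.1.natDegree = n} := fun x =>
    ⟨⟨minpoly F ((x : Kˣ) : K), minpoly.monic (hint _), minpoly.irreducible (hint _), hX _⟩, hdeg x x.2⟩
  have hle := Finset.card_le_mul_card_image_of_maps_to (f := Φ) (s := Finset.univ) (t := Finset.univ)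
    (fun x _ => Finset.mem_univ _) n fun P _ => by
    have h1 : (Finset.univ.filter fun x : S => Φ x = P).card ≤ (P.1.1.rootSet K).toFinset.card := by
      refine Finset.card_le_card_of_injOn (fun x => ((x : Kˣ) : K)) (fun x hx => ?_)
        fun x _ y _ e => Subtype.ext (Units.ext e)
      simp only [Finset.coe_filter, Finset.mem_univ, true_and, Set.mem_ofPred_eq] at hx
      simp only [Set.coe_toFinset, Polynomial.mem_rootSet, ← hx]
      exact ⟨(Φ x).1.2.1.ne_zero, minpoly.aeval F ((x : Kˣ) : K)⟩
    refine h1.trans ?_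
    rw [Set.toFinset_card, ← Nat.card_eq_fintype_card, Nat.card_coe_set_eq]
    exact (Polynomial.ncard_rootSet_le _ _).trans P.2.le
  rw [Finset.card_univ, Fintype.card_coe, hScard, Finset.card_univ] at hle
  rw [Nat.card_eq_fintype_card]
  exact Nat.div_le_of_le_mul hle

end Poly

end Cfsg.Agent.H60.Cusp
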