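/-
Double cosets of parabolic subgroups on which the Mackey kernel of cuspidal data vanishes.
-/
import Cfsg.Agent.H60.Cusp.Datum

set_option autoImplicit false
set_option linter.unusedSectionVars false

namespace Cfsg.Agent.H60.Cusp

open Matrix Finset
open Cfsg.Agent.CharBasic Cfsg.Agent.CharInduce
open scoped ComplexConjugate

universe u

variable {F : Type u} [Field F] [Fintype F] [DecidableEq F] {n : ℕ}

namespace Shape

variable (s : Shape n)

/-- An element of one block. -/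
def single (k : Fin s.r) : GL (Fin (s.d k)) F →* GL (Fin n) F :=
  s.lev.comp (MonoidHom.mulSingle (fun k => GL (Fin (s.d k)) F) k)

theorem single_eq (k : Fin s.r) (x : GL (Fin (s.d k)) F) : s.single k x = s.lev (Pi.mulSingle k x) :=
  rfl

theorem single_apply_same (k : Fin s.r) (x : GL (Fin (s.d k)) F) (i j : Fin (s.d k)) :
    (s.single k x : Matrix (Fin n) (Fin n) F) (s.e ⟨k, i⟩) (s.e ⟨k, j⟩) =
      (x : Matrix (Fin (s.d k)) (Fin (s.d k)) F) i j := by
  rw [single_eq, lev_apply_same, Pi.mulSingle_eq_same]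

theorem single_apply_ne (k : Fin s.r) (x : GL (Fin (s.d k)) F) {a b : Fin n}
    (h : s.blk a ≠ k ∨ s.blk b ≠ k) :
    (s.single k x : Matrix (Fin n) (Fin n) F) a b = (1 : Matrix (Fin n) (Fin n) F) a b := by
  by_cases hab : s.blk a = s.blk b
  · obtain ⟨l, i, rfl⟩ := s.exists_e a
    obtain ⟨j, rfl⟩ := s.exists_e_of_blk (hab.symm.trans (s.blk_e l i))
    have hl : l ≠ k := by simpa using h
    rw [single_eq, lev_apply_same, Pi.mulSingle_eq_of_ne hl, Units.val_one]
    exact (congrFun₂ (s.submatrix_one (F := F) l) i j).symm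
  · rw [single_eq, s.lev_apply_ne _ hab, Matrix.one_apply_ne]
    rintro rfl
    exact hab rfl

/-- A permutation inside one block. -/
def blockPerm (k : Fin s.r) (σ : Equiv.Perm (Fin (s.d k))) : Equiv.Perm (Fin n) :=
  s.e.permCongr (Equiv.sigmaCongrRight (Pi.mulSingle (M := fun k => Equiv.Perm (Fin (s.d k))) k σ))

theorem blockPerm_e (k : Fin s.r) (σ : Equiv.Perm (Fin (s.d k))) (i : Fin (s.d k)) :
    s.blockPerm k σ (s.e ⟨k, i⟩) = s.e ⟨k, σ i⟩ := by
  simp [blockPerm]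

theorem blk_blockPerm (k : Fin s.r) (σ : Equiv.Perm (Fin (s.d k))) (x : Fin n) :
    s.blk (s.blockPerm k σ x) = s.blk x := by
  obtain ⟨l, i, rfl⟩ := s.exists_e x
  simp [blockPerm]

end Shape

variable {s s' : Shape n} {θ : ∀ k, GL (Fin (s.d k)) F → ℂ} {θ' : ∀ k, GL (Fin (s'.d k)) F → ℂ}

theorem kern_eq_zero_of_cut (hθ : ∀ k, IsCharacter _ (θ k)) (hc : ∀ k, IsCusp (θ k))
    (w : Equiv.Perm (Fin n)) (k : Fin s.r) (m : ℕ) (hm : 0 < m) (hm' : m < s.d k)
    (hlt : ∀ i j : Fin (s.d k), i.val < m → m ≤ j.val →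
      s'.L (w⁻¹ (s.e ⟨k, i⟩)) < s'.L (w⁻¹ (s.e ⟨k, j⟩))) :
    kern (Par s.L) (Par s'.L) (rho s θ) (rho s' θ') (mono w 1) = 0 := by
  classical
  set K := inter (Par (F := F) s.L) (Par s'.L) (mono w 1)
  haveI : Fintype K := Fintype.ofFinite _
  have hr : ∀ x : GL (Fin (s.d k)) F, x ∈ Rad (cut m) →
      (mono w 1)⁻¹ * s.single k x * mono w 1 ∈ Rad s'.L := by
    intro x hx a b hab
    rw [conj_mono_apply]
    simp only [Pi.one_apply, inv_one, Units.val_one, one_mul, mul_one]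
    have hone : (1 : Matrix (Fin n) (Fin n) F) a b = (1 : Matrix (Fin n) (Fin n) F) (w a) (w b) := by
      simp [Matrix.one_apply]
    rw [hone]
    by_cases h : s.blk (w a) ≠ k ∨ s.blk (w b) ≠ k
    · exact s.single_apply_ne k x h
    · push Not at h
      obtain ⟨i, hi⟩ := s.exists_e_of_blk h.1
      obtain ⟨j, hj⟩ := s.exists_e_of_blk h.2
      rw [← hi, ← hj, s.single_apply_same, hx i j, ← congrFun₂ (s.submatrix_one (F := F) k) i j]
      · rfl
      · simp only [cut]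
        by_contra hcon
        have h2 : i.val < m ∧ m ≤ j.val := by split_ifs at hcon <;> omega
        have := hlt i j h2.1 h2.2
        rw [hi, hj] at this
        simp only [Equiv.Perm.inv_def, Equiv.symm_apply_apply] at this
        omega
  have hK : ∀ x : Rad (F := F) (cut (n := s.d k) m), s.single k (x : GL (Fin (s.d k)) F) ∈ K := fun x =>
    mem_inter.2 ⟨s.lev_mem _, Rad_le_Par _ (hr _ x.2)⟩
  rw [kern_eq_sum]
  refine sum_translate (fun x : Rad (F := F) (cut (n := s.d k) m) =>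
    (⟨s.single k (x : GL (Fin (s.d k)) F), hK x⟩ : K)) _ _ ?_ ?_
  · intro g
    set p : Par (F := F) s.L := ⟨g, (mem_inter.1 g.2).1⟩
    have hval : ∀ x : Rad (F := F) (cut (n := s.d k) m),
        rho s θ ⟨((g * ⟨s.single k (x : GL (Fin (s.d k)) F), hK x⟩ : K) : GL (Fin n) F),
          (mem_inter.1 (g * ⟨s.single k (x : GL (Fin (s.d k)) F), hK x⟩ : K).2).1⟩ =
        θ k (s.pi p k * x) * ∏ l ∈ ({k}ᶜ : Finset (Fin s.r)), θ l (s.pi p l) := by
      intro x
      have h1 : s.pi (p * ⟨s.single k (x : GL (Fin (s.d k)) F), s.lev_mem _⟩) =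
          s.pi p * Pi.mulSingle k (x : GL (Fin (s.d k)) F) := by
        rw [map_mul]
        congr 1
        exact s.pi_lev _
      show prodFun θ (s.pi (p * ⟨s.single k (x : GL (Fin (s.d k)) F), s.lev_mem _⟩)) = _
      rw [h1, prodFun, Fintype.prod_eq_mul_prod_compl k]
      congr 1
      · simp
      · refine Finset.prod_congr rfl fun l hl => ?_
        simp [Pi.mulSingle_eq_of_ne (by simpa using hl : l ≠ k)]
    simp only [hval]
    have h0 : ∑ x : Rad (F := F) (cut (n := s.d k) m), θ k (s.pi p k * x) = 0 :=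
      sum_translate_char (hθ k) (Rad (F := F) (cut (n := s.d k) m)).subtype (hc k m hm hm') _
    rw [← Finset.sum_mul, h0, zero_mul]
  · intro g x
    congr 1
    set q : Par (F := F) s'.L := ⟨(mono w 1)⁻¹ * (g : GL (Fin n) F) * mono w 1, (mem_inter.1 g.2).2⟩
    set u : Par (F := F) s'.L :=
      ⟨(mono w 1)⁻¹ * s.single k (x : GL (Fin (s.d k)) F) * mono w 1, Rad_le_Par _ (hr _ x.2)⟩
    refine Eq.trans (congrArg (rho s' θ') (Subtype.ext ?_)) (rho_mul_Rad s' θ' q (u := u) (hr _ x.2))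
    simp only [Subgroup.coe_mul, q, u]
    group

theorem kern_mul_mono_right (hθ : ∀ k, IsCharacter _ (θ k)) (hθ' : ∀ k, IsCharacter _ (θ' k))
    {σ : Equiv.Perm (Fin n)} (hσ : ∀ x, s.L (σ x) = s.L x) (w : Equiv.Perm (Fin n)) :
    kern (Par s.L) (Par s'.L) (rho s θ) (rho s' θ') (mono (σ * w) (1 : Fin n → Fˣ)) =
      kern (Par s.L) (Par s'.L) (rho s θ) (rho s' θ') (mono w 1) := by
  have h : mono (σ * w) (1 : Fin n → Fˣ) = mono σ 1 * mono w 1 * 1 := by
    rw [mul_one, mono_mul]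
    simp only [Pi.one_apply, mul_one]
    rfl
  rw [h, kern_mul _ _ (rho_classFun hθ) (rho_classFun hθ') (mono_mem_Par hσ 1) (one_mem _)]

theorem block_const (hθ : ∀ k, IsCharacter _ (θ k)) (hc : ∀ k, IsCusp (θ k))
    (hθ' : ∀ k, IsCharacter _ (θ' k)) {w : Equiv.Perm (Fin n)}
    (h0 : kern (Par s.L) (Par s'.L) (rho s θ) (rho s' θ') (mono w 1) ≠ 0) {a b : Fin n}
    (hab : s.blk a = s.blk b) : s'.blk (w⁻¹ a) = s'.blk (w⁻¹ b) := by
  classical
  obtain ⟨k, i, rfl⟩ := s.exists_e a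
  obtain ⟨j, rfl⟩ := s.exists_e_of_blk (hab.symm.trans (s.blk_e k i))
  clear hab
  set g0 : Fin (s.d k) → ℕ := fun i => s'.L (w⁻¹ (s.e ⟨k, i⟩)) with hg0
  by_contra hne
  have hne' : g0 i ≠ g0 j := fun e => hne (Fin.ext e)
  set g := g0 ∘ Tuple.sort g0
  have hg : Monotone g := Tuple.monotone_sort g0
  have hex : ∃ m : ℕ, ∃ hm : m < s.d k, g ⟨m, hm⟩ ≠ g ⟨0, s.pos k⟩ := by
    by_contra hall
    push Not at hall
    refine hne' ?_
    have hi := hall ((Tuple.sort g0).symm i).val ((Tuple.sort g0).symm i).2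
    have hj := hall ((Tuple.sort g0).symm j).val ((Tuple.sort g0).symm j).2
    simp only [Fin.eta, g, Function.comp_apply, Equiv.apply_symm_apply] at hi hj
    exact hi.trans hj.symm
  obtain ⟨hm, hgm⟩ := Nat.find_spec hex
  set m := Nat.find hex with hmdef
  have hpos : 0 < m := Nat.pos_of_ne_zero fun e => hgm (congrArg g (Fin.ext e))
  have hlow : ∀ x : Fin (s.d k), x.val < m → g x = g ⟨0, s.pos k⟩ := fun x hx => by
    by_contra hx'
    exact Nat.find_min hex hx ⟨x.2, hx'⟩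
  set σ := s.blockPerm k (Tuple.sort g0)
  have hσ : ∀ x, s.L (σ x) = s.L x := fun x => congrArg Fin.val (s.blk_blockPerm k _ x)
  refine h0 ?_
  rw [show w = σ * (σ⁻¹ * w) from (mul_inv_cancel_left σ w).symm, kern_mul_mono_right hθ hθ' hσ]
  refine kern_eq_zero_of_cut hθ hc _ k m hpos hm fun x y hx hy => ?_
  have hw : ∀ z, (σ⁻¹ * w)⁻¹ (s.e ⟨k, z⟩) = w⁻¹ (s.e ⟨k, Tuple.sort g0 z⟩) := fun z => by
    rw [_root_.mul_inv_rev, inv_inv, Equiv.Perm.mul_apply, s.blockPerm_e]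
  rw [hw, hw]
  show g x < g y
  refine lt_of_lt_of_le ?_ (hg (show (⟨m, hm⟩ : Fin (s.d k)) ≤ y from hy))
  rw [hlow x hx]
  exact lt_of_le_of_ne (hg (Fin.le_def.2 (Nat.zero_le _))) (Ne.symm hgm)

theorem block_const' (hθ : ∀ k, IsCharacter _ (θ k))
    (hθ' : ∀ k, IsCharacter _ (θ' k)) (hc' : ∀ k, IsCusp (θ' k)) {w : Equiv.Perm (Fin n)}
    (h0 : kern (Par s.L) (Par s'.L) (rho s θ) (rho s' θ') (mono w 1) ≠ 0) {a b : Fin n}
    (hab : s'.blk a = s'.blk b) : s.blk (w a) = s.blk (w b) := by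
  have hinv : (mono w (1 : Fin n → Fˣ))⁻¹ = mono w⁻¹ 1 := by
    refine inv_eq_of_mul_eq_one_right ?_
    rw [mono_mul, mul_inv_cancel]
    apply Units.ext
    ext i j
    simp only [mono_apply, Equiv.Perm.one_apply, Pi.one_apply, mul_one, Units.val_one, Matrix.one_apply]
    by_cases h : i = j <;> simp [h]
  have h1 : kern (Par s'.L) (Par s.L) (rho s' θ') (rho s θ) (mono w⁻¹ 1) ≠ 0 := fun e => h0 (by
    rw [kern_conj, hinv, e, map_zero])
  simpa using block_const hθ' hc' hθ h1 hab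

end Cfsg.Agent.H60.Cusp
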