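/-
The inner product of two characters induced from cuspidal data.
-/
import Cfsg.Agent.H60.Cusp.Vanish

set_option autoImplicit false
set_option linter.unusedSectionVars false

namespace Cfsg.Agent.H60.Cusp

open Matrix Finset
open Cfsg.Agent.CharBasic Cfsg.Agent.CharInduce
open scoped ComplexConjugate

universe u

variable {F : Type u} [Field F] [Fintype F] [DecidableEq F] {n : ℕ}

/-- Renaming the coordinates along an equality of dimensions. -/
def castGL {a b : ℕ} (h : a = b) : GL (Fin a) F ≃* GL (Fin b) F :=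
  Units.mapEquiv (Matrix.reindexAlgEquiv F F (finCongr h)).toMulEquiv

theorem castGL_apply {a b : ℕ} (h : a = b) (x : GL (Fin a) F) (i j : Fin a) :
    (castGL h x : Matrix (Fin b) (Fin b) F) (finCongr h i) (finCongr h j) =
      (x : Matrix (Fin a) (Fin a) F) i j := by
  subst h
  rfl

theorem castGL_rfl {a : ℕ} (x : GL (Fin a) F) : castGL rfl x = x :=
  Units.ext (by ext i j; rfl)

theorem Shape.card_blk (s : Shape n) (k : Fin s.r) : Fintype.card {a // s.blk a = k} = s.d k := by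
  rw [← Fintype.card_congr (s.e.subtypeEquiv (p := fun x => x.1 = k) (q := fun a => s.blk a = k)
    fun x => by rw [s.blk_e]), Fintype.card_congr (Equiv.sigmaSubtype (β := fun k => Fin (s.d k)) k),
    Fintype.card_fin]

/-- Bijections of blocks respecting the sizes. -/
abbrev Match (s s' : Shape n) := {π : Fin s.r ≃ Fin s'.r // ∀ k, s.d k = s'.d (π k)}

namespace Match

variable {s s' : Shape n} (π : Match s s')

/-- The permutation carrying the blocks of the second partition onto those of the first. -/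
def perm : Equiv.Perm (Fin n) :=
  s'.e.symm.trans ((Equiv.sigmaCongr π.1 fun k => finCongr (π.2 k)).symm.trans s.e)

theorem perm_e (k : Fin s.r) (i : Fin (s.d k)) :
    π.perm (s'.e ⟨π.1 k, finCongr (π.2 k) i⟩) = s.e ⟨k, i⟩ := by
  have h : (Equiv.sigmaCongr (β₂ := fun k' => Fin (s'.d k')) π.1 fun k => finCongr (π.2 k)) ⟨k, i⟩ =
      ⟨π.1 k, finCongr (π.2 k) i⟩ := rfl
  rw [perm, Equiv.trans_apply, Equiv.trans_apply, Equiv.symm_apply_apply, ← h, Equiv.symm_apply_apply]

theorem perm_inv_e (k : Fin s.r) (i : Fin (s.d k)) :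
    π.perm⁻¹ (s.e ⟨k, i⟩) = s'.e ⟨π.1 k, finCongr (π.2 k) i⟩ := by
  rw [← π.perm_e k i]
  simp

theorem blk_inv (a : Fin n) : s'.blk (π.perm⁻¹ a) = π.1 (s.blk a) := by
  obtain ⟨k, i, rfl⟩ := s.exists_e a
  rw [π.perm_inv_e, Shape.blk_e, Shape.blk_e]

theorem blk_perm (b : Fin n) : π.1 (s.blk (π.perm b)) = s'.blk b := by
  rw [← π.blk_inv, Equiv.Perm.inv_def, Equiv.symm_apply_apply]

end Match

section Value

variable {s s' : Shape n} {θ : ∀ k, GL (Fin (s.d k)) F → ℂ} {θ' : ∀ k, GL (Fin (s'.d k)) F → ℂ}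

theorem kern_match (π : Match s s') :
    kern (Par s.L) (Par s'.L) (rho s θ) (rho s' θ') (mono π.perm 1) /
        (Nat.card (inter (Par (F := F) s.L) (Par s'.L) (mono π.perm 1)) : ℂ) =
      ∏ k, classInner (θ k) (θ' (π.1 k) ∘ castGL (π.2 k)) := by
  classical
  set K := inter (Par (F := F) s.L) (Par s'.L) (mono π.perm 1)
  let _ : Fintype K := Fintype.ofFinite _
  let φ : K →* ∀ k, GL (Fin (s.d k)) F :=
    s.pi.comp (Subgroup.inclusion (inf_le_left : K ≤ Par s.L))
  have hφ : Function.Surjective φ := fun x => by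
    refine ⟨⟨s.lev x, mem_inter.2 ⟨s.lev_mem x, fun a b hab => ?_⟩⟩, s.pi_lev x⟩
    rw [conj_mono_apply, s.lev_apply_ne x, mul_zero, zero_mul]
    intro e
    have := congrArg π.1 e
    rw [π.blk_perm, π.blk_perm] at this
    exact hab.ne (congrArg Fin.val this).symm
  have hproj : ∀ (g : K) (k : Fin s.r),
      s'.pi ⟨(mono π.perm 1)⁻¹ * (g : GL (Fin n) F) * mono π.perm 1, (mem_inter.1 g.2).2⟩ (π.1 k) =
        castGL (π.2 k) (φ g k) := by
    intro g k
    apply Units.ext
    ext i j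
    obtain ⟨i, rfl⟩ := (finCongr (π.2 k)).surjective i
    obtain ⟨j, rfl⟩ := (finCongr (π.2 k)).surjective j
    rw [castGL_apply, Shape.pi_apply, Shape.proj_apply, conj_mono_apply, π.perm_e, π.perm_e]
    simp only [Pi.one_apply, inv_one, Units.val_one, one_mul, mul_one]
    rfl
  set η : ∀ k, GL (Fin (s.d k)) F → ℂ := fun k => θ' (π.1 k) ∘ castGL (π.2 k)
  have hterm : ∀ g : K, rho s θ ⟨g, (mem_inter.1 g.2).1⟩ *
      conj (rho s' θ' ⟨(mono π.perm 1)⁻¹ * (g : GL (Fin n) F) * mono π.perm 1, (mem_inter.1 g.2).2⟩) =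
      prodFun θ (φ g) * conj (prodFun η (φ g)) := by
    intro g
    congr 2
    simp only [rho, prodFun]
    rw [← π.1.prod_comp]
    exact Finset.prod_congr rfl fun k _ => by rw [hproj g k]; rfl
  rw [kern_eq_sum, Finset.sum_congr rfl fun g _ => hterm g,
    sum_comp_surj φ hφ (fun x => prodFun θ x * conj (prodFun η x)), ← classInner_prodFun, classInner_def,
    Nat.card_eq_fintype_card, Nat.card_eq_fintype_card]
  have h1 : (Fintype.card K : ℂ) ≠ 0 := by exact_mod_cast Fintype.card_ne_zero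
  field_simp
  rfl

theorem cover (hθ : ∀ k, IsCharacter _ (θ k)) (hc : ∀ k, IsCusp (θ k))
    (hθ' : ∀ k, IsCharacter _ (θ' k)) (hc' : ∀ k, IsCusp (θ' k)) (x : GL (Fin n) F)
    (hx : kern (Par s.L) (Par s'.L) (rho s θ) (rho s' θ') x ≠ 0) :
    ∃ π : Match s s', ∃ p ∈ Par s.L, ∃ q ∈ Par s'.L, x = p * mono π.perm 1 * q := by
  classical
  obtain ⟨u, hu, v, hv, w, t, rfl⟩ := exists_bruhat x
  have hmono : mono w t = mono w 1 * mono 1 t := by
    rw [mono_mul, mul_one]
    simp
  have hu' := Uni_le_Par s.mono_L hu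
  have hv' : mono 1 t * v ∈ Par s'.L := mul_mem (diag_mem_Par _ t) (Uni_le_Par s'.mono_L hv)
  rw [show u * mono w t * v = u * mono w 1 * (mono 1 t * v) by rw [hmono]; group] at hx ⊢
  rw [kern_mul _ _ (rho_classFun hθ) (rho_classFun hθ') hu' hv'] at hx
  have hb : ∀ a b, s.blk a = s.blk b → s'.blk (w⁻¹ a) = s'.blk (w⁻¹ b) := fun a b =>
    block_const hθ hc hθ' hx
  have hb' : ∀ a b, s'.blk a = s'.blk b → s.blk (w a) = s.blk (w b) := fun a b =>
    block_const' hθ hθ' hc' hx
  let f : Fin s.r → Fin s'.r := fun k => s'.blk (w⁻¹ (s.e ⟨k, ⟨0, s.pos k⟩⟩))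
  let g : Fin s'.r → Fin s.r := fun k => s.blk (w (s'.e ⟨k, ⟨0, s'.pos k⟩⟩))
  have hf : ∀ a, f (s.blk a) = s'.blk (w⁻¹ a) := fun a => hb _ _ (s.blk_e _ _)
  have hg : ∀ b, g (s'.blk b) = s.blk (w b) := fun b => hb' _ _ (s'.blk_e _ _)
  let π : Fin s.r ≃ Fin s'.r :=
    { toFun := f
      invFun := g
      left_inv := fun k => by
        obtain ⟨a, rfl⟩ := s.surj_blk k
        rw [hf, hg, Equiv.Perm.inv_def, Equiv.apply_symm_apply]
      right_inv := fun k => by
        obtain ⟨b, rfl⟩ := s'.surj_blk k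
        rw [hg, hf, Equiv.Perm.inv_def, Equiv.symm_apply_apply] }
  have hd : ∀ k, s.d k = s'.d (π k) := fun k => by
    rw [← s.card_blk k, ← s'.card_blk (π k)]
    refine Fintype.card_congr (Equiv.subtypeEquiv w⁻¹ fun a => ?_)
    rw [← hf]
    exact ⟨fun e => congrArg f e, fun e => π.injective e⟩
  let P : Match s s' := ⟨π, hd⟩
  set σ := w * P.perm⁻¹ with hσ
  have hσL : ∀ a, s.L (σ a) = s.L a := fun a => by
    refine congrArg Fin.val (P.1.injective ?_)
    show π (s.blk (w (P.perm⁻¹ a))) = π (s.blk a)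
    rw [← hg (P.perm⁻¹ a), P.blk_inv]
    exact congrArg π (π.left_inv _)
  refine ⟨P, u * mono σ 1, mul_mem hu' (mono_mem_Par hσL 1), _, hv', ?_⟩
  rw [mul_assoc u (mono σ 1), mono_mul, hσ, inv_mul_cancel_right]
  simp only [Pi.one_apply, mul_one]
  rfl

theorem disjoint_match (π₁ π₂ : Match s s') {p q : GL (Fin n) F} (hp : p ∈ Par s.L) (hq : q ∈ Par s'.L)
    (e : mono π₂.perm 1 = p * mono π₁.perm 1 * q) : π₁ = π₂ := by
  have e' : p⁻¹ * mono π₂.perm 1 = mono π₁.perm 1 * q := by rw [e]; group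
  have key : ∀ a b, ((p⁻¹ : GL (Fin n) F) : Matrix (Fin n) (Fin n) F) a (π₂.perm b) =
      (q : Matrix (Fin n) (Fin n) F) (π₁.perm⁻¹ a) b := fun a b => by
    have h := congrArg (fun g : GL (Fin n) F => (g : Matrix (Fin n) (Fin n) F) a b) e'
    simpa [Units.val_mul, mul_mono_apply, mono_mul_apply] using h
  have hle : ∀ k, π₁.1 k ≤ π₂.1 k := fun k => by
    set P : GL (Fin (s.d k)) F := s.pi ⟨p⁻¹, inv_mem hp⟩ k with hP
    obtain ⟨i, j, hij⟩ : ∃ i j, (P : Matrix (Fin (s.d k)) (Fin (s.d k)) F) i j ≠ 0 := by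
      by_contra hall
      push Not at hall
      have h := congrArg (fun M : Matrix (Fin (s.d k)) (Fin (s.d k)) F => M ⟨0, s.pos k⟩ ⟨0, s.pos k⟩) P.mul_inv
      rw [show (P : Matrix (Fin (s.d k)) (Fin (s.d k)) F) = 0 from Matrix.ext hall, zero_mul,
        Matrix.one_apply_eq] at h
      exact zero_ne_one h
    rw [hP, Shape.pi_apply, Shape.proj_apply, show s.e ⟨k, j⟩ = π₂.perm (π₂.perm⁻¹ (s.e ⟨k, j⟩)) by simp,
      key] at hij
    by_contra hlt
    refine hij (hq _ _ ?_)
    simp only [Shape.L, Match.blk_inv, Shape.blk_e]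
    exact Fin.lt_def.1 (not_le.1 hlt)
  refine Subtype.ext (Equiv.ext fun k => Fin.ext ?_)
  have hsum : ∑ k, (π₁.1 k).val = ∑ k, (π₂.1 k).val := by
    rw [π₁.1.sum_comp fun k => k.val, π₂.1.sum_comp fun k => k.val]
  exact (Finset.sum_eq_sum_iff_of_le fun x _ => Fin.le_def.1 (hle x)).1 hsum k (Finset.mem_univ k)

/-- Mackey's formula for cuspidal data. -/
theorem classInner_induced [Fintype (Match s s')] (hθ : ∀ k, IsCharacter _ (θ k))
    (hc : ∀ k, IsCusp (θ k)) (hθ' : ∀ k, IsCharacter _ (θ' k)) (hc' : ∀ k, IsCusp (θ' k)) :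
    classInner (indFun (Par s.L) (rho s θ)) (indFun (Par s'.L) (rho s' θ')) =
      ∑ π : Match s s', ∏ k, classInner (θ k) (θ' (π.1 k) ∘ castGL (π.2 k)) := by
  rw [classInner_ind_eq_sum _ _ (rho_classFun hθ) (rho_classFun hθ') (fun π : Match s s' => mono π.perm 1)
    (cover hθ hc hθ' hc') fun π₁ π₂ p hp q hq e => disjoint_match π₁ π₂ hp hq e]
  exact Finset.sum_congr rfl fun π _ => kern_match π

end Value

theorem classInner_cast {a b : ℕ} (h : a = b) {χ : GL (Fin a) F → ℂ} {χ' : GL (Fin b) F → ℂ}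
    (hχ : IsIrrCharacter _ χ) (hχ' : IsIrrCharacter _ χ') :
    classInner χ (χ' ∘ castGL h) ≠ 0 → HEq χ χ' ∧ classInner χ (χ' ∘ castGL h) = 1 := by
  subst h
  have e : χ' ∘ castGL (F := F) (rfl : a = a) = χ' := funext fun x => congrArg χ' (castGL_rfl x)
  rw [e]
  intro hne
  have : χ = χ' := by
    by_contra hn
    exact hne (classInner_irr_of_ne hχ hχ' hn)
  subst this
  exact ⟨HEq.rfl, classInner_irr_self hχ⟩

theorem CIrr.pair (c c' : CIrr F) (h : c.deg = c'.deg) [Decidable (c = c')] :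
    classInner c.χ (c'.χ ∘ castGL h) = if c = c' then 1 else 0 := by
  split_ifs with e
  · subst e
    rw [show c.χ ∘ castGL (F := F) h = c.χ from funext fun x => congrArg c.χ (castGL_rfl x)]
    exact classInner_irr_self c.irr
  · by_contra hne
    obtain ⟨h1, -⟩ := classInner_cast h c.irr c'.irr hne
    obtain ⟨d, _, χ, _, _⟩ := c
    obtain ⟨d', _, χ', _, _⟩ := c'
    simp only at h
    subst h
    obtain rfl : χ = χ' := eq_of_heq h1
    exact e rfl

/-- The norms of the induced characters count the bijections of data. -/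
theorem classInner_R (D D' : Dat F n) :
    classInner D.R D'.R = (Nat.card {π : Fin D.r ≃ Fin D'.r // ∀ k, D'.key (π k) = D.key k} : ℂ) := by
  classical
  rw [Dat.R, Dat.R, classInner_induced (fun k => CharBasic.IsIrr.isCharacter (D.key k).irr)
    (fun k => (D.key k).cusp) (fun k => CharBasic.IsIrr.isCharacter (D'.key k).irr)
    fun k => (D'.key k).cusp]
  rw [Nat.card_eq_fintype_card, Fintype.card_subtype]
  rw [Finset.sum_congr rfl (g := fun π : Match D.shape D'.shape =>
    if ∀ k, D'.key (π.1 k) = D.key k then (1 : ℂ) else 0) fun π _ => ?_]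
  · rw [Finset.sum_boole]
    congr 1
    refine Finset.card_bij (fun π _ => π.1) (fun π hπ => ?_) (fun a _ b _ h => Subtype.ext h)
      fun π hπ => ⟨⟨π, fun k => ?_⟩, ?_, rfl⟩
    · simpa using hπ
    · simp only [Finset.mem_filter, Finset.mem_univ, true_and] at hπ
      show (D.key k).deg = (D'.key (π k)).deg
      rw [hπ k]
    · simpa using hπ
  · split_ifs with hall
    · refine Finset.prod_eq_one fun k _ => ?_
      rw [CIrr.pair (D.key k) (D'.key (π.1 k)) (π.2 k), if_pos (hall k).symm]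
    · obtain ⟨k, hk⟩ := not_forall.1 hall
      refine Finset.prod_eq_zero (Finset.mem_univ k) ?_
      rw [CIrr.pair (D.key k) (D'.key (π.1 k)) (π.2 k), if_neg (Ne.symm hk)]

end Cfsg.Agent.H60.Cusp
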