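/-
The multiplicity of the nondegenerate character in a parabolically induced character.
-/
import Cfsg.Agent.H60.Cusp.Mackey

set_option autoImplicit false
set_option linter.unusedSectionVars false

namespace Cfsg.Agent.H60.Cusp

open Matrix Finset
open Cfsg.Agent.CharBasic Cfsg.Agent.CharInduce
open scoped ComplexConjugate

universe u

variable {F : Type u} [Field F] [Fintype F] [DecidableEq F] {n : ℕ}

namespace Shape

variable (s : Shape n)

/-- The permutation reversing the order of the blocks and keeping each block in order. -/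
def rev0 : Equiv.Perm (Fin n) :=
  Fin.revPerm.trans (s.e.symm.trans ((Equiv.sigmaCongrRight fun _ => Fin.revPerm).trans s.e))

theorem rev0_inv_e (k : Fin s.r) (i : Fin (s.d k)) :
    s.rev0⁻¹ (s.e ⟨k, i⟩) = Fin.rev (s.e ⟨k, Fin.rev i⟩) := by
  rw [Equiv.Perm.inv_def, Equiv.symm_apply_eq]
  simp [rev0]

theorem rev0_val (k : Fin s.r) (i : Fin (s.d k)) :
    (s.rev0⁻¹ (s.e ⟨k, i⟩)).val + 1 + s.off k + s.d k = n + i.val + 1 := by
  rw [rev0_inv_e, Fin.val_rev, e_val, Fin.val_rev]
  have := (s.e ⟨k, Fin.rev i⟩).2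
  rw [e_val, Fin.val_rev] at this
  have := i.2
  omega

theorem rev0_lt {k l : Fin s.r} (h : k < l) (i : Fin (s.d k)) (j : Fin (s.d l)) :
    (s.rev0⁻¹ (s.e ⟨l, j⟩)).val < (s.rev0⁻¹ (s.e ⟨k, i⟩)).val := by
  have := s.rev0_val k i
  have := s.rev0_val l j
  have := s.off_le h
  have := j.2
  omega

end Shape

variable {s : Shape n} {θ : ∀ k, GL (Fin (s.d k)) F → ℂ}

theorem kern_ascent (w : Equiv.Perm (Fin n)) {i j : Fin n} (hij : j.val = i.val + 1)
    (hlt : s.L (w i) < s.L (w j)) :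
    kern (Par s.L) (Uni F n) (rho s θ) (psi F n) (mono w 1) = 0 := by
  classical
  set K := inter (Par (F := F) s.L) (Uni F n) (mono w 1)
  let _ : Fintype K := Fintype.ofFinite _
  have hne : i ≠ j := fun e => by subst e; omega
  have hne' : w i ≠ w j := fun e => hne (w.injective e)
  have hconj : ∀ x : F, (mono w 1)⁻¹ * tv (w i) (w j) hne' x * mono w 1 = tv i j hne x := fun x => by
    have h := mul_tv w (1 : Fin n → Fˣ) hne x
    simp only [Pi.one_apply, inv_one, Units.val_one, one_mul, mul_one] at h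
    rw [mul_assoc, ← h, inv_mul_cancel_left]
  have hK : ∀ x : F, tv (w i) (w j) hne' x ∈ K := fun x => mem_inter.2
    ⟨Rad_le_Par _ (tv_mem_Rad hlt x), by
      rw [hconj]
      exact tv_mem_Rad (L := fun a : Fin n => a.val) (by omega) x⟩
  rw [kern_eq_sum, Finset.sum_congr rfl fun g _ => mul_comm _ _]
  refine sum_translate (fun x : F => (⟨tv (w i) (w j) hne' x, hK x⟩ : K)) _ _ ?_ ?_
  · intro g
    have hg := (mem_inter.1 g.2).2
    have hval : ∀ x : F, psi F n ⟨(mono w 1)⁻¹ * ((g * ⟨tv (w i) (w j) hne' x, hK x⟩ : K) : GL (Fin n) F) *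
        mono w 1, (mem_inter.1 (g * ⟨tv (w i) (w j) hne' x, hK x⟩ : K).2).2⟩ =
        psi F n ⟨_, hg⟩ * phi F x := by
      intro x
      simp only [psi, Subgroup.coe_mul]
      rw [show (mono w 1)⁻¹ * ((g : GL (Fin n) F) * tv (w i) (w j) hne' x) * mono w 1 =
        ((mono w 1)⁻¹ * (g : GL (Fin n) F) * mono w 1) * ((mono w 1)⁻¹ * tv (w i) (w j) hne' x * mono w 1) by group,
        hconj, sd_mul hg (tv_mem_Rad (L := fun a : Fin n => a.val) (by omega) x), sd_tv, if_pos hij,
        AddChar.map_add_eq_mul]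
    simp only [hval, map_mul, conj_phi, ← Finset.mul_sum]
    have h0 := phi_sum (F := F) (-1)
    simp only [mul_neg, mul_one, neg_eq_zero, one_ne_zero, if_false] at h0
    rw [h0, mul_zero]
  · intro g x
    exact rho_mul_Rad s θ ⟨g, (mem_inter.1 g.2).1⟩ (u := ⟨_, (mem_inter.1 (hK x)).1⟩) (tv_mem_Rad hlt x)

theorem eq_rev0 {w : Equiv.Perm (Fin n)} (hinc : ∀ k, StrictMono fun i => w⁻¹ (s.e ⟨k, i⟩))
    (hanti : Antitone fun a => s.L (w a)) : w = s.rev0 := by
  have hu : s.L ∘ (Fin.revPerm.trans w : Equiv.Perm (Fin n)) = s.L ∘ (1 : Equiv.Perm (Fin n)) :=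
    Tuple.unique_monotone (fun a b hab => hanti (Fin.rev_le_rev.2 hab)) (by simpa using s.mono_L)
  have hL : ∀ a, s.L (w (Fin.rev a)) = s.L a := fun a => congrFun hu a
  suffices h : ∀ k i, w⁻¹ (s.e ⟨k, i⟩) = s.rev0⁻¹ (s.e ⟨k, i⟩) by
    apply inv_injective
    refine Equiv.ext fun a => ?_
    obtain ⟨k, i, rfl⟩ := s.exists_e a
    exact h k i
  intro k
  have hblk : ∀ i, s.blk (Fin.rev (w⁻¹ (s.e ⟨k, i⟩))) = k := fun i => Fin.ext <| by
    show s.L _ = _
    rw [← hL, Fin.rev_rev, Equiv.Perm.inv_def, Equiv.apply_symm_apply, s.L_e]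
  choose f hf using fun i => s.exists_e_of_blk (hblk i)
  have hmono : StrictMono (f ∘ Fin.rev) := fun a b hab => by
    have h := hinc k (Fin.rev_lt_rev.2 hab)
    simp only at h
    rw [← Fin.rev_lt_rev, ← hf, ← hf, Fin.lt_def, s.e_val, s.e_val] at h
    simp only [Function.comp_apply, Fin.lt_def]
    omega
  have hid : f ∘ Fin.rev = id := (hmono.range_inj strictMono_id).1
    (by rw [Set.range_id, Set.range_eq_univ]; exact Finite.surjective_of_injective hmono.injective)
  intro i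
  rw [s.rev0_inv_e, ← Fin.rev_rev (w⁻¹ (s.e ⟨k, i⟩)), ← hf]
  have := congrFun hid (Fin.rev i)
  simp only [Function.comp_apply, Fin.rev_rev, id_eq] at this
  rw [this]

theorem cover_w (hθ : ∀ k, IsCharacter _ (θ k)) (x : GL (Fin n) F)
    (hx : kern (Par s.L) (Uni F n) (rho s θ) (psi F n) x ≠ 0) :
    ∃ p ∈ Par s.L, ∃ q ∈ Uni F n, x = p * mono s.rev0 1 * q := by
  classical
  obtain ⟨u, hu, v, hv, w, t, rfl⟩ := exists_bruhat x
  set σ : Equiv.Perm (Fin n) :=
    s.e.permCongr (Equiv.sigmaCongrRight fun k => Tuple.sort fun i => w⁻¹ (s.e ⟨k, i⟩)) with hσdef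
  have hσe : ∀ k i, σ (s.e ⟨k, i⟩) = s.e ⟨k, Tuple.sort (fun i => w⁻¹ (s.e ⟨k, i⟩)) i⟩ := fun k i => by
    simp [hσdef]
  have hσL : ∀ a, s.L (σ a) = s.L a := fun a => by
    obtain ⟨k, i, rfl⟩ := s.exists_e a
    rw [hσe, Shape.L_e, Shape.L_e]
  set w1 := σ⁻¹ * w with hw1
  have hp : u * mono 1 (fun a => t (w⁻¹ a)) * mono σ 1 ∈ Par s.L :=
    mul_mem (mul_mem (Uni_le_Par s.mono_L hu) (diag_mem_Par _ _)) (mono_mem_Par hσL 1)
  have hw : mono w t = mono 1 (fun a => t (w⁻¹ a)) * mono σ 1 * mono w1 1 := by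
    rw [mono_mul, mono_mul, hw1]
    simp
  rw [show u * mono w t * v = (u * mono 1 (fun a => t (w⁻¹ a)) * mono σ 1) * mono w1 1 * v by
    rw [hw]; group] at hx ⊢
  rw [kern_mul _ _ (rho_classFun hθ) psi_classFun hp hv] at hx
  suffices h : w1 = s.rev0 from ⟨_, hp, v, hv, by rw [h]⟩
  refine eq_rev0 (fun k => ?_) ?_
  · have hinj : Function.Injective fun i => w⁻¹ (s.e ⟨k, i⟩) := fun a b h => s.e_inj ((w⁻¹).injective h)
    have he : (fun i => w1⁻¹ (s.e ⟨k, i⟩)) =
        (fun i => w⁻¹ (s.e ⟨k, i⟩)) ∘ Tuple.sort (fun i => w⁻¹ (s.e ⟨k, i⟩)) := funext fun i => by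
      rw [hw1, _root_.mul_inv_rev, inv_inv, Equiv.Perm.mul_apply, hσe]
      rfl
    rw [he]
    exact (Tuple.monotone_sort _).strictMono_of_injective (hinj.comp (Equiv.injective _))
  · intro a b hab
    obtain ⟨d, hd⟩ : ∃ d, b.val = a.val + d := ⟨b.val - a.val, by have := Fin.le_def.1 hab; omega⟩
    clear hab
    induction d generalizing b with
    | zero =>
      have : b = a := Fin.ext (by omega)
      rw [this]
    | succ d ih =>
      let c : Fin n := ⟨a.val + d, by omega⟩
      refine le_trans ?_ (ih (b := c) rfl)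
      by_contra hlt
      exact hx (kern_ascent w1 (i := c) (j := b) (by simp [c]; omega) (not_le.1 hlt))

theorem kern_rev0 :
    kern (Par s.L) (Uni F n) (rho s θ) (psi F n) (mono s.rev0 1) /
        (Nat.card (inter (Par (F := F) s.L) (Uni F n) (mono s.rev0 1)) : ℂ) = ∏ k, whit (θ k) := by
  classical
  set K := inter (Par (F := F) s.L) (Uni F n) (mono s.rev0 1)
  let _ : Fintype K := Fintype.ofFinite _
  have hentry : ∀ (g : GL (Fin n) F) (a b : Fin n),
      (((mono s.rev0 1)⁻¹ * g * mono s.rev0 1 : GL (Fin n) F) : Matrix (Fin n) (Fin n) F)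
        (s.rev0⁻¹ a) (s.rev0⁻¹ b) = (g : Matrix (Fin n) (Fin n) F) a b := fun g a b => by
    rw [conj_mono_apply]
    simp
  have hone : ∀ k (i j : Fin (s.d k)), (1 : Matrix (Fin n) (Fin n) F) (s.e ⟨k, i⟩) (s.e ⟨k, j⟩) =
      (1 : Matrix (Fin (s.d k)) (Fin (s.d k)) F) i j := fun k i j =>
    congrFun₂ (s.submatrix_one (F := F) k) i j
  have hmem : ∀ x : ∀ k, Uni F (s.d k),
      s.lev (fun k => (x k : GL (Fin (s.d k)) F)) ∈ K := by
    refine fun x => mem_inter.2 ⟨s.lev_mem _, fun a b hab => ?_⟩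
    obtain ⟨⟨k, i⟩, rfl⟩ := (s.e.trans (s.rev0⁻¹ : Equiv.Perm (Fin n))).surjective a
    obtain ⟨⟨l, j⟩, rfl⟩ := (s.e.trans (s.rev0⁻¹ : Equiv.Perm (Fin n))).surjective b
    simp only [Equiv.trans_apply] at hab ⊢
    rw [hentry]
    have h1 : (1 : Matrix (Fin n) (Fin n) F) (s.rev0⁻¹ (s.e ⟨k, i⟩)) (s.rev0⁻¹ (s.e ⟨l, j⟩)) =
        (1 : Matrix (Fin n) (Fin n) F) (s.e ⟨k, i⟩) (s.e ⟨l, j⟩) := by simp [Matrix.one_apply]
    refine Eq.trans ?_ h1.symm
    by_cases hkl : k = l
    · subst hkl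
      rw [s.lev_apply_same, hone]
      refine (x k).2 i j ?_
      simp only
      have := s.rev0_val k i
      have := s.rev0_val k j
      omega
    · rw [s.lev_apply_ne _ (by simpa using hkl), Matrix.one_apply_ne fun e => hkl (by
        simpa using congrArg s.blk e)]
  let φ : (∀ k, Uni F (s.d k)) → K := fun x => ⟨_, hmem x⟩
  have hφ : Function.Bijective φ := by
    constructor
    · intro x y h
      funext k
      apply Subtype.ext
      apply Units.ext
      ext i j
      have := congrArg (fun g : GL (Fin n) F => g.1 (s.e ⟨k, i⟩) (s.e ⟨k, j⟩)) (congrArg Subtype.val h)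
      simpa [φ, s.lev_apply_same] using this
    · rintro ⟨g, hg⟩
      obtain ⟨h1, h2⟩ := mem_inter.1 hg
      have hU : ∀ k, s.pi ⟨g, h1⟩ k ∈ Uni F (s.d k) := fun k i j hij => by
        simp only at hij
        rw [Shape.pi_apply, Shape.proj_apply, ← hentry g, h2 _ _ (by
          have := s.rev0_val k i
          have := s.rev0_val k j
          simp only
          omega), ← hone]
        simp [Matrix.one_apply]
      refine ⟨fun k => ⟨_, hU k⟩, Subtype.ext (Units.ext (Matrix.ext fun a b => ?_))⟩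
      obtain ⟨k, i, rfl⟩ := s.exists_e a
      obtain ⟨l, j, rfl⟩ := s.exists_e b
      show (s.lev (fun k => s.pi ⟨g, h1⟩ k) : Matrix (Fin n) (Fin n) F) _ _ = _
      rcases lt_trichotomy k l with h | h | h
      · rw [s.lev_apply_ne _ (by simpa using h.ne)]
        show (0 : F) = g.1 (s.e ⟨k, i⟩) (s.e ⟨l, j⟩)
        rw [← hentry g, h2 _ _ (s.rev0_lt h i j).le, Matrix.one_apply_ne]
        exact fun e => h.ne (by simpa using congrArg s.blk ((s.rev0⁻¹).injective e))
      · subst h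
        exact s.lev_apply_same _ k i j
      · rw [s.lev_apply_ne _ (by simpa using h.ne')]
        exact (h1 _ _ (by simpa using h)).symm
  have hsd : ∀ x : ∀ k, Uni F (s.d k),
      sd ((mono s.rev0 1)⁻¹ * (φ x : GL (Fin n) F) * mono s.rev0 1) =
        ∑ k, sd (x k : GL (Fin (s.d k)) F) := by
    intro x
    set ee := s.e.trans (s.rev0⁻¹ : Equiv.Perm (Fin n))
    simp only [sd]
    rw [← ee.sum_comp, Fintype.sum_sigma]
    refine Finset.sum_congr rfl fun k _ => Finset.sum_congr rfl fun i _ => ?_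
    rw [← ee.sum_comp, Fintype.sum_sigma, Finset.sum_eq_single k]
    · refine Finset.sum_congr rfl fun j _ => ?_
      simp only [ee, Equiv.trans_apply, hentry]
      have := s.rev0_val k i
      have := s.rev0_val k j
      by_cases hj : j.val = i.val + 1
      · rw [if_pos hj, if_pos (by omega)]
        exact s.lev_apply_same _ k i j
      · rw [if_neg hj, if_neg (by omega)]
    · intro l _ hl
      refine Finset.sum_eq_zero fun j _ => ?_
      simp only [ee, Equiv.trans_apply, hentry]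
      rw [ite_eq_right_iff]
      intro
      exact s.lev_apply_ne _ (by simpa using Ne.symm hl)
    · exact fun h => absurd (Finset.mem_univ _) h
  have hterm : ∀ x : ∀ k, Uni F (s.d k),
      rho s θ ⟨φ x, (mem_inter.1 (φ x).2).1⟩ *
        conj (psi F n ⟨(mono s.rev0 1)⁻¹ * (φ x : GL (Fin n) F) * mono s.rev0 1, (mem_inter.1 (φ x).2).2⟩) =
      prodFun (fun k (u : Uni F (s.d k)) => θ k u) x *
        conj (prodFun (fun k => psi F (s.d k)) x) := by
    intro x
    congr 1
    · show prodFun θ (s.pi ⟨s.lev _, _⟩) = _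
      rw [s.pi_lev]
      rfl
    · congr 1
      simp only [psi, prodFun, hsd, phi_sum_eq_prod]
  rw [kern_eq_sum, ← Fintype.sum_equiv (Equiv.ofBijective φ hφ) _ _ (fun x => (hterm x).symm),
    ← Nat.card_congr (Equiv.ofBijective φ hφ), div_eq_inv_mul, ← classInner_def, classInner_prodFun]
  rfl

/-- The multiplicity of the nondegenerate character in an induced character. -/
theorem classInner_induced_gam (hθ : ∀ k, IsCharacter _ (θ k)) :
    classInner (indFun (Par s.L) (rho s θ)) (gam F n) = ∏ k, whit (θ k) := by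
  classical
  rw [gam, classInner_ind_eq_sum _ _ (rho_classFun hθ) psi_classFun
    (fun _ : Unit => mono s.rev0 (1 : Fin n → Fˣ))
    (fun x hx => ⟨(), cover_w hθ x hx⟩) fun _ _ _ _ _ _ _ => rfl]
  rw [Fintype.sum_unique, kern_rev0]

theorem whit_R (D : Dat F n) : whit D.R = 1 := by
  rw [← classInner_gam D.R_classFun, Dat.R,
    classInner_induced_gam fun k => CharBasic.IsIrr.isCharacter (D.key k).irr]
  exact Finset.prod_eq_one fun k _ => whit_eq_one (D.key k)

end Cfsg.Agent.H60.Cusp
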