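/-
Every irreducible character lies in some character induced from a cuspidal datum.
-/
import Cfsg.Agent.H60.Cusp.Datum
import Cfsg.Agent.H60.Cusp.Vanish

set_option autoImplicit false
set_option linter.unusedSectionVars false

namespace Cfsg.Agent.H60.Cusp

open Matrix Finset
open Cfsg.Agent.CharBasic Cfsg.Agent.CharInduce
open scoped ComplexConjugate

universe u

variable {F : Type u} [Field F] [Fintype F] [DecidableEq F] {n : ℕ}

/-- The number of strictly ordered pairs of a labelling. -/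
def spread (f : Fin n → ℕ) : ℕ :=
  ((Finset.univ : Finset (Fin n × Fin n)).filter fun p => f p.1 < f p.2).card

theorem spread_le (f : Fin n → ℕ) : spread f ≤ n * n := by
  refine (Finset.card_filter_le _ _).trans ?_
  simp

theorem exists_max (χ : GL (Fin n) F → ℂ) (h1 : χ 1 ≠ 0) :
    ∃ f : Fin n → ℕ, Monotone f ∧ ∑ g : Rad (F := F) f, χ (g : GL (Fin n) F) ≠ 0 ∧
      ∀ f' : Fin n → ℕ, Monotone f' → spread f < spread f' →
        ∑ g : Rad (F := F) f', χ (g : GL (Fin n) F) = 0 := by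
  classical
  let P : ℕ → Prop := fun c => ∃ f : Fin n → ℕ, Monotone f ∧
    ∑ g : Rad (F := F) f, χ (g : GL (Fin n) F) ≠ 0 ∧ spread f = c
  have hbot : Rad (F := F) (fun _ : Fin n => 0) = ⊥ := by
    rw [Subgroup.eq_bot_iff_forall]
    intro g hg
    apply Units.ext
    ext a b
    exact hg a b le_rfl
  have h0 : P (spread fun _ : Fin n => 0) := by
    refine ⟨_, monotone_const, ?_, rfl⟩
    rw [Finset.sum_eq_single (1 : Rad (F := F) fun _ : Fin n => 0)]
    · exact h1
    · exact fun g _ hg => absurd (Subtype.ext ((Subgroup.eq_bot_iff_forall _).1 hbot _ g.2)) hg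
    · exact fun h => absurd (Finset.mem_univ _) h
  obtain ⟨f, hf, hne, hfc⟩ := Nat.findGreatest_spec (spread_le _) h0
  refine ⟨f, hf, hne, fun f' hf' hlt => ?_⟩
  by_contra hne'
  have := Nat.le_findGreatest (P := P) (spread_le f') ⟨f', hf', hne', rfl⟩
  omega

namespace Shape

variable (s : Shape n)

/-- The refinement of a partition cutting one block. -/
def refine2 (k : Fin s.r) (m : ℕ) (a : Fin n) : ℕ :=
  2 * s.L a + if s.blk a = k ∧ s.off k + m ≤ a.val then 1 else 0

theorem refine2_cut (k : Fin s.r) (m : ℕ) (i : Fin (s.d k)) :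
    s.refine2 k m (s.e ⟨k, i⟩) = 2 * k.val + cut m i := by
  simp only [refine2, cut, Shape.L_e, Shape.blk_e, Shape.e_val, true_and]
  split_ifs <;> omega

theorem refine2_bounds (k : Fin s.r) (m : ℕ) (a : Fin n) :
    2 * s.L a ≤ s.refine2 k m a ∧ s.refine2 k m a ≤ 2 * s.L a + 1 ∧
      (s.blk a ≠ k → s.refine2 k m a = 2 * s.L a) := by
  unfold refine2
  split_ifs with h
  · exact ⟨by omega, by omega, fun hne => absurd h.1 hne⟩
  · exact ⟨by omega, by omega, fun _ => by omega⟩

theorem refine2_le {k : Fin s.r} {m : ℕ} {a b : Fin n} (h : s.refine2 k m a ≤ s.refine2 k m b) :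
    s.L a ≤ s.L b := by
  have := (s.refine2_bounds k m a).1
  have := (s.refine2_bounds k m b).2.1
  omega

theorem refine2_mono (k : Fin s.r) (m : ℕ) : Monotone (s.refine2 k m) := fun a b hab => by
  rcases (s.mono_L hab).lt_or_eq with h | h
  · have := (s.refine2_bounds k m a).2.1
    have := (s.refine2_bounds k m b).1
    omega
  · unfold refine2
    rw [s.L_inj.1 h, h]
    have := Fin.le_def.1 hab
    split_ifs with h1 h2 <;> omega

theorem spread_refine2 (k : Fin s.r) {m : ℕ} (hm : 0 < m) (hm' : m < s.d k) :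
    spread s.L < spread (s.refine2 k m) := by
  refine Finset.card_lt_card (Finset.ssubset_iff_of_subset ?_ |>.2 ?_)
  · intro p hp
    simp only [Finset.mem_filter, Finset.mem_univ, true_and] at hp ⊢
    have := (s.refine2_bounds k m p.1).2.1
    have := (s.refine2_bounds k m p.2).1
    omega
  · refine ⟨(s.e ⟨k, ⟨0, s.pos k⟩⟩, s.e ⟨k, ⟨m, hm'⟩⟩), ?_, ?_⟩
    · simp [refine2_cut, cut, hm]
    · simp

theorem Rad_le_refine2 (k : Fin s.r) (m : ℕ) :
    Rad (F := F) s.L ≤ Rad (s.refine2 k m) := fun _ hg a b hab => hg a b (s.refine2_le hab)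

theorem single_mem_refine2 (k : Fin s.r) {m : ℕ} {x : GL (Fin (s.d k)) F} (hx : x ∈ Rad (cut m)) :
    s.single k x ∈ Rad (s.refine2 k m) := by
  intro a b hab
  by_cases h : s.blk a ≠ k ∨ s.blk b ≠ k
  · exact s.single_apply_ne k x h
  · push Not at h
    obtain ⟨i, rfl⟩ := s.exists_e_of_blk h.1
    obtain ⟨j, rfl⟩ := s.exists_e_of_blk h.2
    rw [s.refine2_cut, s.refine2_cut] at hab
    rw [s.single_apply_same, hx i j (by omega)]
    exact (congrFun₂ (s.submatrix_one (F := F) k) i j).symm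

/-- Elements of the refined radical. -/
theorem refine2_surj (k : Fin s.r) (m : ℕ) {h : GL (Fin n) F} (hh : h ∈ Rad (s.refine2 k m)) :
    ∃ x ∈ Rad (F := F) (cut (n := s.d k) m), (s.single k x)⁻¹ * h ∈ Rad s.L := by
  have hP : h ∈ Par s.L := fun a b hab => by
    rw [hh a b (by
      have := (s.refine2_bounds k m b).2.1
      have := (s.refine2_bounds k m a).1
      omega), Matrix.one_apply_ne]
    rintro rfl
    exact lt_irrefl _ hab
  set p : Par (F := F) s.L := ⟨h, hP⟩
  have hu : s.pi p k ∈ Rad (F := F) (cut (n := s.d k) m) := fun i j hij => by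
    rw [pi_apply, proj_apply, hh _ _ (by rw [refine2_cut, refine2_cut]; omega)]
    exact congrFun₂ (s.submatrix_one (F := F) k) i j
  have hpi : s.pi p = Pi.mulSingle k (s.pi p k) := by
    funext l
    by_cases hl : l = k
    · subst hl
      rw [Pi.mulSingle_eq_same]
    · rw [Pi.mulSingle_eq_of_ne hl]
      apply Units.ext
      ext i j
      rw [pi_apply, proj_apply, hh _ _ (by
        rw [(s.refine2_bounds k m _).2.2 (by simpa using hl),
          (s.refine2_bounds k m _).2.2 (by simpa using hl)]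
        simp)]
      exact congrFun₂ (s.submatrix_one (F := F) l) i j
  refine ⟨_, hu, ?_⟩
  set S : Par (F := F) s.L := ⟨s.lev (Pi.mulSingle k (s.pi p k)), s.lev_mem _⟩ with hS
  have h1 : s.pi (S⁻¹ * p) = 1 := by
    rw [map_mul, map_inv, hS, s.pi_lev, ← hpi, inv_mul_cancel]
  exact s.pi_eq_one.1 h1

theorem refine2_inj (k : Fin s.r) {x y : GL (Fin (s.d k)) F} {g h : Rad (F := F) s.L}
    (e : s.single k x * (g : GL (Fin n) F) = s.single k y * (h : GL (Fin n) F)) : x = y ∧ g = h := by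
  have e' : s.split (Pi.mulSingle k x, g) = s.split (Pi.mulSingle k y, h) := Subtype.ext e
  obtain ⟨h1, h2⟩ := Prod.ext_iff.1 (s.split.injective e')
  exact ⟨by simpa using congrFun h1 k, h2⟩

/-- The sum over the cosets of the radical. -/
noncomputable def F0 (χ : GL (Fin n) F → ℂ) (x : ∀ k, GL (Fin (s.d k)) F) : ℂ :=
  ∑ g : Rad (F := F) s.L, χ (s.lev x * (g : GL (Fin n) F))

theorem F0_classFun {χ : GL (Fin n) F → ℂ} (hχ : IsClassFunction _ χ) :
    IsClassFunction _ (s.F0 χ) := fun x y => by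
  let e : Rad (F := F) s.L ≃ Rad (F := F) s.L :=
    { toFun := fun g => ⟨(s.lev y)⁻¹ * g * s.lev y, s.conj_mem_Rad (s.lev_mem y) g.2⟩
      invFun := fun g => ⟨(s.lev y⁻¹)⁻¹ * g * s.lev y⁻¹, s.conj_mem_Rad (s.lev_mem y⁻¹) g.2⟩
      left_inv := fun g => Subtype.ext (by simp [mul_assoc])
      right_inv := fun g => Subtype.ext (by simp [mul_assoc]) }
  refine Fintype.sum_equiv e _ _ fun g => ?_
  show χ (s.lev (y * x * y⁻¹) * (g : GL (Fin n) F)) = χ (s.lev x * ((s.lev y)⁻¹ * g * s.lev y))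
  rw [← hχ (s.lev x * ((s.lev y)⁻¹ * g * s.lev y)) (s.lev y)]
  congr 1
  rw [map_mul, map_mul, map_inv]
  group

theorem sum_F0_single (χ : GL (Fin n) F → ℂ) (k : Fin s.r) (m : ℕ) :
    ∑ x : Rad (F := F) (cut (n := s.d k) m), s.F0 χ (Pi.mulSingle k (x : GL (Fin (s.d k)) F)) =
      ∑ g : Rad (F := F) (s.refine2 k m), χ (g : GL (Fin n) F) := by
  simp only [F0]
  refine ((Fintype.sum_prod_type' fun (x : Rad (F := F) (cut (n := s.d k) m)) (g : Rad (F := F) s.L) =>
    χ (s.single k (x : GL (Fin (s.d k)) F) * (g : GL (Fin n) F))).symm).trans ?_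
  refine Fintype.sum_bijective (fun p : Rad (F := F) (cut (n := s.d k) m) × Rad (F := F) s.L =>
    (⟨_, mul_mem (s.single_mem_refine2 k p.1.2) (s.Rad_le_refine2 k m p.2.2)⟩ : Rad (s.refine2 k m)))
    ⟨?_, ?_⟩ _ _ fun p => rfl
  · rintro ⟨x, g⟩ ⟨y, h⟩ e
    obtain ⟨h1, h2⟩ := s.refine2_inj k (Subtype.ext_iff.1 e)
    exact Prod.ext (Subtype.ext h1) h2
  · rintro ⟨h, hh⟩
    obtain ⟨x, hx, hxg⟩ := s.refine2_surj k m hh
    exact ⟨(⟨x, hx⟩, ⟨_, hxg⟩), Subtype.ext (mul_inv_cancel_left _ _)⟩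

end Shape

/-- Harish-Chandra: every irreducible character occurs in a character induced from a cuspidal datum. -/
theorem exists_datum {χ : GL (Fin n) F → ℂ} (hχ : IsIrrCharacter _ χ) :
    ∃ D : Dat F n, classInner χ D.R ≠ 0 := by
  classical
  have hcf := CharBasic.IsIrr.isClassFunction hχ
  obtain ⟨f, hf, hne, hmax⟩ := exists_max χ (CharBasic.IsIrr.one_ne_zero hχ)
  obtain ⟨s, hs⟩ := Shape.exists_shape hf
  have hsp : spread s.L = spread f := by
    unfold spread
    refine congrArg Finset.card (Finset.filter_congr fun p _ => ?_)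
    rw [← not_le, ← not_le, hs]
  replace hne : ∑ g : Rad (F := F) s.L, χ (g : GL (Fin n) F) ≠ 0 := fun h0 => hne <| by
    rw [← h0]
    exact Fintype.sum_equiv (MulEquiv.subgroupCongr (Rad_congr hs).symm).toEquiv _ _ fun _ => rfl
  haveI : ∀ k, Finite (IrrCharacter (GL (Fin (s.d k)) F)) := fun k => finite_irrCharacter
  let _ : Fintype (∀ k, IrrCharacter (GL (Fin (s.d k)) F)) := Fintype.ofFinite _
  set K : ℂ := (Nat.card (Par (F := F) s.L) : ℂ) / (Nat.card (∀ k, GL (Fin (s.d k)) F) : ℂ) with hK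
  have hK0 : K ≠ 0 := div_ne_zero (card_ne_zero_complex _) (card_ne_zero_complex _)
  have hcoef : ∀ θ : ∀ k, IrrCharacter (GL (Fin (s.d k)) F),
      classInner (s.F0 χ) (prodFun fun k => (θ k : GL (Fin (s.d k)) F → ℂ)) =
        K * classInner χ (indFun (Par s.L) (rho s fun k => (θ k : GL (Fin (s.d k)) F → ℂ))) := by
    intro θ
    rw [classInner_indFun_right _ _ _ hcf, classInner_def, classInner_def, ← s.split.sum_comp,
      Fintype.sum_prod_type]
    simp only [rho, s.split_apply, s.pi_split, ← Finset.sum_mul]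
    rw [hK]
    have h1 := card_ne_zero_complex (Par (F := F) s.L)
    have h2 := card_ne_zero_complex (∀ k, GL (Fin (s.d k)) F)
    field_simp
    rfl
  have hnat : ∀ θ : ∀ k, IrrCharacter (GL (Fin (s.d k)) F), ∃ a : ℕ,
      classInner χ (indFun (Par s.L) (rho s fun k => (θ k : GL (Fin (s.d k)) F → ℂ))) = a := fun θ =>
    classInner_isChar_nat (CharBasic.IsIrr.isCharacter hχ)
      (CharInduce.IsChar.ind _ (rho_isChar fun k => CharBasic.IsIrr.isCharacter (θ k).2))
  choose a ha using hnat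
  have hexp : ∀ x, s.F0 χ x = ∑ θ : ∀ k, IrrCharacter (GL (Fin (s.d k)) F),
      K * (a θ : ℂ) * ∏ k, (θ k : GL (Fin (s.d k)) F → ℂ) (x k) := fun x => by
    rw [expansion (s.F0_classFun hcf) x]
    exact Finset.sum_congr rfl fun θ _ => by rw [hcoef, ha]
  obtain ⟨θ, hθ⟩ : ∃ θ, a θ ≠ 0 := by
    by_contra hall
    push Not at hall
    refine hne ?_
    have h1 : s.F0 χ 1 = 0 := by
      rw [hexp]
      simp [hall]
    rw [← h1]
    simp [Shape.F0]
  have hcusp : ∀ k, IsCusp (θ k : GL (Fin (s.d k)) F → ℂ) := by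
    intro k m hm hm'
    have hdeg : ∀ η : IrrCharacter (GL (Fin (s.d k)) F), ∃ b : ℕ,
        ∑ x : Rad (F := F) (cut (n := s.d k) m), (η : GL (Fin (s.d k)) F → ℂ) x =
          (Fintype.card (Rad (F := F) (cut (n := s.d k) m)) : ℂ) * b := fun η =>
      exists_nat_sum (CharBasic.IsIrr.isCharacter η.2) (Rad (F := F) (cut (n := s.d k) m)).subtype
    choose b hb using hdeg
    have hone : ∀ (l : Fin s.r) (η : IrrCharacter (GL (Fin (s.d l)) F)), ∃ d : ℕ,
        0 < d ∧ (η : GL (Fin (s.d l)) F → ℂ) 1 = d := fun l η =>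
      CharBasic.IsIrr.exists_degree η.2
    choose d hd0 hd using hone
    have hsum : ((∑ η : ∀ l, IrrCharacter (GL (Fin (s.d l)) F),
        a η * b (η k) * ∏ l ∈ ({k}ᶜ : Finset (Fin s.r)), d l (η l) : ℕ) : ℂ) = 0 := by
      have h := s.sum_F0_single χ k m
      rw [hmax _ (s.refine2_mono k m) (hsp ▸ s.spread_refine2 k hm hm')] at h
      simp only [hexp] at h
      rw [Finset.sum_comm] at h
      have h2 : ∀ η : ∀ l, IrrCharacter (GL (Fin (s.d l)) F),
          ∑ x : Rad (F := F) (cut (n := s.d k) m), K * (a η : ℂ) *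
            ∏ l, (η l : GL (Fin (s.d l)) F → ℂ) (Pi.mulSingle (M := fun l => GL (Fin (s.d l)) F) k
              (x : GL (Fin (s.d k)) F) l) =
          (K * (Fintype.card (Rad (F := F) (cut (n := s.d k) m)) : ℂ)) *
            ((a η * b (η k) * ∏ l ∈ ({k}ᶜ : Finset (Fin s.r)), d l (η l) : ℕ) : ℂ) := by
        intro η
        have hx : ∀ x : Rad (F := F) (cut (n := s.d k) m),
            ∏ l, (η l : GL (Fin (s.d l)) F → ℂ) (Pi.mulSingle (M := fun l => GL (Fin (s.d l)) F) k
              (x : GL (Fin (s.d k)) F) l) =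
            (η k : GL (Fin (s.d k)) F → ℂ) x * ∏ l ∈ ({k}ᶜ : Finset (Fin s.r)), (d l (η l) : ℂ) := by
          intro x
          rw [Fintype.prod_eq_mul_prod_compl k]
          congr 1
          · rw [Pi.mulSingle_eq_same]
          · refine Finset.prod_congr rfl fun l hl => ?_
            rw [Pi.mulSingle_eq_of_ne (by simpa using hl : l ≠ k), hd]
        simp only [hx]
        rw [← Finset.mul_sum, ← Finset.sum_mul, hb]
        push_cast
        ring
      rw [Finset.sum_congr rfl fun η _ => h2 η, ← Finset.mul_sum] at h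
      rw [Nat.cast_sum]
      exact (mul_eq_zero.1 h).resolve_left
        (mul_ne_zero hK0 (by exact_mod_cast Fintype.card_ne_zero))
    have hz : a θ * b (θ k) * ∏ l ∈ ({k}ᶜ : Finset (Fin s.r)), d l (θ l) = 0 :=
      (Finset.sum_eq_zero_iff).1 (Nat.cast_eq_zero.1 hsum) θ (Finset.mem_univ θ)
    have hb0 : b (θ k) = 0 := by
      rcases mul_eq_zero.1 hz with h | h
      · exact (mul_eq_zero.1 h).resolve_left hθ
      · obtain ⟨l, -, hl⟩ := Finset.prod_eq_zero_iff.1 h
        exact absurd hl (hd0 l _).ne'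
    rw [hb, hb0, Nat.cast_zero, mul_zero]
  refine ⟨⟨s.r, fun k => ⟨s.d k, s.pos k, _, (θ k).2, hcusp k⟩, s.sum⟩, ?_⟩
  show classInner χ (indFun (Par s.L) (rho s fun k => (θ k : GL (Fin (s.d k)) F → ℂ))) ≠ 0
  rw [ha]
  exact_mod_cast hθ

end Cfsg.Agent.H60.Cusp
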