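/-
Counting the cuspidal characters of the general linear groups.
-/
import Cfsg.Agent.H60.Cusp.Support
import Cfsg.Agent.H60.Cusp.MackeyW
import Cfsg.Agent.H60.Cusp.Graded

set_option autoImplicit false
set_option linter.unusedSectionVars false

namespace Cfsg.Agent.H60.Cusp

open Matrix Finset
open Cfsg.Agent.CharBasic Cfsg.Agent.CharInduce
open scoped ComplexConjugate

universe u

variable {F : Type u} [Field F] [Fintype F] [DecidableEq F] {n m : ℕ}

theorem keys_eq_iff (D D' : Dat F n) :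
    D.keys = D'.keys ↔ ∃ π : Fin D.r ≃ Fin D'.r, ∀ k, D'.key (π k) = D.key k := by
  classical
  constructor
  · intro h
    have hc : ∀ c, Fintype.card {k // D.key k = c} = Fintype.card {k // D'.key k = c} := fun c => by
      have := congrArg (Multiset.count c) h
      simp only [Dat.keys, Multiset.count_map] at this
      simp only [eq_comm (a := c)] at this
      rw [Fintype.card_subtype, Fintype.card_subtype]
      exact this
    exact ⟨Equiv.ofFiberEquiv fun c => Fintype.equivOfCardEq (hc c),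
      fun k => Equiv.ofFiberEquiv_map (fun c => Fintype.equivOfCardEq (hc c)) k⟩
  · rintro ⟨π, h⟩
    have hk : D.key = D'.key ∘ π := funext fun k => (h k).symm
    rw [Dat.keys, Dat.keys, hk, ← Multiset.map_map]
    congr 1
    exact congrArg Finset.val (Finset.map_univ_equiv π)

theorem keys_eq_of_inner_ne (D D' : Dat F n) (h : classInner D.R D'.R ≠ 0) : D.keys = D'.keys := by
  rw [classInner_R, Nat.cast_ne_zero] at h
  obtain ⟨⟨π, hπ⟩⟩ := (Nat.card_ne_zero.1 h).1
  exact (keys_eq_iff D D').2 ⟨π, hπ⟩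

theorem R_eq_of_keys_eq {D D' : Dat F n} (h : D.keys = D'.keys) : D.R = D'.R := by
  obtain ⟨π₀, hπ₀⟩ := (keys_eq_iff D D').1 h
  have h1 : Nat.card {π : Fin D.r ≃ Fin D'.r // ∀ k, D'.key (π k) = D.key k} =
      Nat.card {π : Fin D.r ≃ Fin D.r // ∀ k, D.key (π k) = D.key k} :=
    Nat.card_congr ((Equiv.equivCongr (Equiv.refl _) π₀.symm).subtypeEquiv fun π =>
      forall_congr' fun k => by
        rw [← hπ₀ ((Equiv.equivCongr (Equiv.refl _) π₀.symm π) k)]
        simp)
  have h2 : Nat.card {π : Fin D'.r ≃ Fin D.r // ∀ k, D.key (π k) = D'.key k} =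
      Nat.card {π : Fin D.r ≃ Fin D.r // ∀ k, D.key (π k) = D.key k} :=
    Nat.card_congr ((Equiv.equivCongr π₀.symm (Equiv.refl _)).subtypeEquiv fun π => by
      refine π₀.symm.forall_congr fun {k} => ?_
      rw [← hπ₀ (π₀.symm k)]
      simp)
  have h3 : Nat.card {π : Fin D'.r ≃ Fin D'.r // ∀ k, D'.key (π k) = D'.key k} =
      Nat.card {π : Fin D.r ≃ Fin D.r // ∀ k, D.key (π k) = D.key k} :=
    Nat.card_congr ((Equiv.equivCongr π₀.symm π₀.symm).subtypeEquiv fun π => by
      refine π₀.symm.forall_congr fun {k} => ?_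
      rw [← hπ₀ ((Equiv.equivCongr π₀.symm π₀.symm π) (π₀.symm k)), ← hπ₀ (π₀.symm k)]
      simp)
  refine sub_eq_zero.1 (classInner_self_eq_zero.1 ?_)
  rw [classInner_sub_left, classInner_sub_right, classInner_sub_right, classInner_R, classInner_R,
    classInner_R, classInner_R, h1, h2, h3]
  ring

theorem exists_mult (D : Dat F n) (χ : IrrCharacter (GL (Fin n) F)) :
    ∃ a : ℕ, classInner D.R (χ : GL (Fin n) F → ℂ) = a :=
  classInner_isChar_nat D.R_isChar (CharBasic.IsIrr.isCharacter χ.2)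

theorem classInner_gam_irr (χ : IrrCharacter (GL (Fin (m + 1)) F)) :
    classInner (gam F (m + 1)) (χ : GL (Fin (m + 1)) F → ℂ) = whit (χ : GL (Fin (m + 1)) F → ℂ) := by
  rw [← classInner_conj_symm, classInner_gam (CharBasic.IsIrr.isClassFunction χ.2)]
  rcases whit_irr χ.2 with h | h <;> simp [h]

/-- The constituent of an induced character occurring in the Gelfand-Graev character. -/
theorem exists_generic (D : Dat F (m + 1)) :
    ∃ χ : IrrCharacter (GL (Fin (m + 1)) F),
      (whit (χ : GL (Fin (m + 1)) F → ℂ) ≠ 0 ∧ classInner D.R (χ : GL (Fin (m + 1)) F → ℂ) ≠ 0) ∧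
      ∀ χ' : IrrCharacter (GL (Fin (m + 1)) F),
        whit (χ' : GL (Fin (m + 1)) F → ℂ) ≠ 0 → classInner D.R (χ' : GL (Fin (m + 1)) F → ℂ) ≠ 0 →
          χ' = χ := by
  classical
  let _ : Fintype (IrrCharacter (GL (Fin (m + 1)) F)) := Fintype.ofFinite _
  have hb : ∀ χ : IrrCharacter (GL (Fin (m + 1)) F), ∃ b : ℕ,
      whit (χ : GL (Fin (m + 1)) F → ℂ) = b := fun χ => by
    rcases whit_irr χ.2 with h | h
    · exact ⟨0, by simp [h]⟩
    · exact ⟨1, by simp [h]⟩
  choose b hb using hb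
  choose a ha using exists_mult D
  have hsum : ∑ χ, a χ * b χ = 1 := by
    have h := classInner_eq_sum (ψ := gam F (m + 1)) D.R_classFun
    rw [classInner_gam D.R_classFun, whit_R] at h
    simp only [ha, classInner_gam_irr, hb, Complex.conj_natCast, ← Nat.cast_mul, ← Nat.cast_sum] at h
    exact_mod_cast h.symm
  obtain ⟨χ, -, hχ⟩ := Finset.exists_ne_zero_of_sum_ne_zero (hsum ▸ one_ne_zero)
  refine ⟨χ, ⟨by rw [hb]; exact_mod_cast right_ne_zero_of_mul hχ,
    by rw [ha]; exact_mod_cast left_ne_zero_of_mul hχ⟩, fun χ' h1 h2 => ?_⟩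
  rw [hb, Nat.cast_ne_zero] at h1
  rw [ha, Nat.cast_ne_zero] at h2
  by_contra hne
  have h3 := Finset.add_le_sum (fun x _ => Nat.zero_le (a x * b x)) (Finset.mem_univ χ')
    (Finset.mem_univ χ) hne
  have : a χ' * b χ' ≠ 0 := Nat.mul_ne_zero h2 h1
  omega

theorem card_generic :
    Nat.card {χ : IrrCharacter (GL (Fin (m + 1)) F) // whit (χ : GL (Fin (m + 1)) F → ℂ) ≠ 0} =
      (Fintype.card F - 1) * Fintype.card F ^ m := by
  classical
  let _ : Fintype (IrrCharacter (GL (Fin (m + 1)) F)) := Fintype.ofFinite _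
  have h := classInner_eq_sum (ψ := gam F (m + 1)) (CharBasic.IsChar.isClassFunction (gam_isChar (F := F) (n := m + 1)))
  rw [norm_gam] at h
  have hterm : ∀ χ : IrrCharacter (GL (Fin (m + 1)) F),
      classInner (gam F (m + 1)) (χ : GL (Fin (m + 1)) F → ℂ) *
        conj (classInner (gam F (m + 1)) (χ : GL (Fin (m + 1)) F → ℂ)) =
      if whit (χ : GL (Fin (m + 1)) F → ℂ) ≠ 0 then 1 else 0 := fun χ => by
    rw [classInner_gam_irr]
    rcases whit_irr χ.2 with h | h <;> simp [h]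
  rw [Finset.sum_congr rfl fun χ _ => hterm χ, Finset.sum_boole, Nat.cast_inj] at h
  rw [Nat.card_eq_fintype_card, Fintype.card_subtype, h]

theorem card_wt_cusp :
    Nat.card (Wt (CIrr.deg (F := F)) (m + 1)) = (Fintype.card F - 1) * Fintype.card F ^ m := by
  classical
  choose D hD using fun M : Wt (CIrr.deg (F := F)) (m + 1) => Dat.exists_of_multiset M.1 M.2
  choose χ hχ huniq using fun M => exists_generic (D M)
  let Φ : Wt (CIrr.deg (F := F)) (m + 1) →
      {χ : IrrCharacter (GL (Fin (m + 1)) F) // whit (χ : GL (Fin (m + 1)) F → ℂ) ≠ 0} :=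
    fun M => ⟨χ M, (hχ M).1⟩
  rw [← card_generic (F := F) (m := m)]
  refine Nat.card_congr (Equiv.ofBijective Φ ⟨fun M N e => ?_, fun ξ => ?_⟩)
  · have e' : χ M = χ N := congrArg Subtype.val e
    refine Subtype.ext ?_
    rw [← hD M, ← hD N]
    refine keys_eq_of_inner_ne _ _ ?_
    let _ : Fintype (IrrCharacter (GL (Fin (m + 1)) F)) := Fintype.ofFinite _
    rw [classInner_eq_sum (D M).R_classFun]
    choose a ha using exists_mult (D M)
    choose b hb using exists_mult (D N)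
    simp only [ha, hb, Complex.conj_natCast, ← Nat.cast_mul, ← Nat.cast_sum, ne_eq, Nat.cast_eq_zero]
    refine fun h0 => ?_
    have h1 := (Finset.sum_eq_zero_iff.1 h0) (χ M) (Finset.mem_univ _)
    have hM := (hχ M).2
    have hN := (hχ N).2
    rw [ha, Nat.cast_ne_zero] at hM
    rw [← e', hb, Nat.cast_ne_zero] at hN
    exact Nat.mul_ne_zero hM hN h1
  · obtain ⟨D₀, hD₀⟩ := exists_datum ξ.1.2
    let M : Wt (CIrr.deg (F := F)) (m + 1) := ⟨D₀.keys, D₀.keys_sum⟩
    refine ⟨M, Subtype.ext (huniq M ξ.1 ξ.2 ?_).symm⟩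
    rw [R_eq_of_keys_eq (hD M), ← classInner_conj_symm]
    simpa using hD₀

theorem card_cusp (hn : 0 < n) :
    Nat.card {χ : IrrCharacter (GL (Fin n) F) // IsCusp (χ : GL (Fin n) F → ℂ)} =
      Nat.card {p : MI F // p.1.natDegree = n} := by
  have h1 : Nat.card {χ : IrrCharacter (GL (Fin n) F) // IsCusp (χ : GL (Fin n) F → ℂ)} =
      Nat.card {c : CIrr F // c.deg = n} := by
    refine Nat.card_congr (Equiv.ofBijective (fun χ => (⟨⟨n, hn, χ.1, χ.1.2, χ.2⟩, rfl⟩ :
      {c : CIrr F // c.deg = n})) ⟨fun χ ξ e => ?_, fun c => ?_⟩)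
    · simp only [Subtype.mk.injEq, CIrr.mk.injEq, heq_eq_eq, true_and] at e
      exact Subtype.ext (Subtype.ext e)
    · obtain ⟨⟨d, hd, χ, h1, h2⟩, hdeg⟩ := c
      obtain rfl : d = n := hdeg
      exact ⟨⟨⟨χ, h1⟩, h2⟩, rfl⟩
  rw [h1]
  refine fibre_card_eq _ _ CIrr.pos MI.pos (fun k => Nat.finite_of_card_ne_zero ?_) finite_wt_monic
    (fun k => ?_) n
  · rw [card_wt_cusp]
    have := Fintype.one_lt_card (α := F)
    exact Nat.mul_ne_zero (by omega) (pow_ne_zero _ (by omega))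
  · rw [card_wt_cusp, Nat.card_congr (wt_monic (k + 1)).some, card_monic]

theorem cusp_degree (hn : 0 < n) {χ : GL (Fin n) F → ℂ} (hirr : IsIrrCharacter _ χ) (hc : IsCusp χ) :
    χ 1 = ∏ i ∈ Finset.Ico 1 n, ((Fintype.card F : ℂ) ^ i - 1) := by
  rw [degree_eq (CharBasic.IsIrr.isCharacter hirr) hn hc,
    show whit χ = 1 from whit_eq_one ⟨n, hn, χ, hirr, hc⟩, mul_one]

theorem mem_Rad_cut {m : ℕ} {g : GL (Fin n) F} :
    g ∈ Rad (cut m) ↔ ∀ i j : Fin n, ¬ (i.val < m ∧ m ≤ j.val) →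
      (g : Matrix (Fin n) (Fin n) F) i j = (1 : Matrix (Fin n) (Fin n) F) i j := by
  refine forall_congr' fun i => forall_congr' fun j => imp_congr ?_ Iff.rfl
  simp only [cut]
  split_ifs <;> omega

end Cfsg.Agent.H60.Cusp
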